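import Mathlib
import Cfsg.Agent.Base
import Cfsg.Agent.Lib.Cover.Stable

/-!
The stable extension theorem with a twisted action on the kernel.
-/

set_option autoImplicit false

namespace H93.SX

open H19.Cov

universe u v

variable {E : Type u} {G : Type v} [Group E] [Group G] {π : E →* G} {χ : G →* MulAut π.ker}

/-- Conjugation by `g` lifts to `E` and acts on the kernel as `χ g`. -/
def Tw (π : E →* G) (χ : G →* MulAut π.ker) (g : G) : Prop :=
  ∃ φ : E → E, (∀ x y, g * π x * g⁻¹ ∈ π.range → g * π y * g⁻¹ ∈ π.range → φ (x * y) = φ x * φ y) ∧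
    (∀ x, g * π x * g⁻¹ ∈ π.range → π (φ x) = g * π x * g⁻¹) ∧ ∀ a : π.ker, φ a = χ g a

theorem chi_out (hχ : ∀ y, χ (π y) = 1) (g : G) (x : G ⧸ π.range) :
    χ (g • x).out = χ g * χ x.out := by
  obtain ⟨y, hy⟩ := cc_mem π g x
  have := hχ y
  rwa [hy, cc, map_mul, map_mul, map_inv, mul_assoc, inv_mul_eq_one] at this

theorem exists_sec_tw (hc : π.ker ≤ Subgroup.center E) (hχ : ∀ y, χ (π y) = 1)
    (hst : ∀ g, Tw π χ g) : ∃ ψ : E →* Wr π, (∀ y, (ψ y).g = π y) ∧
      ∀ a : π.ker, ψ a = Wr.base π fun x => χ x.out⁻¹ a := by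
  classical
  choose φ h1 h2 h3 using hst
  let O : G ⧸ π.range → Set (G ⧸ π.range) := fun x => {x' | ∃ y : E, π y • x' = x}
  have hO : ∀ (y : E) x, O (π y • x) = O x := fun y x => by
    ext x'
    constructor
    · rintro ⟨z, hz⟩
      exact ⟨y⁻¹ * z, by rw [map_mul, mul_smul, hz, map_inv, inv_smul_smul]⟩
    · rintro ⟨z, hz⟩
      exact ⟨y * z, by rw [map_mul, mul_smul, hz]⟩
  let b : G ⧸ π.range → G ⧸ π.range := fun x => Classical.epsilon (· ∈ O x)
  have hb : ∀ x, ∃ y : E, π y • b x = x := fun x =>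
    Classical.epsilon_spec (p := (· ∈ O x)) ⟨x, 1, by simp⟩
  have hb' : ∀ (y : E) x, b (π y • x) = b x := fun y x => by simp only [b, hO]
  choose k hk using hb
  choose j hj using fun x => cc_mem π (π (k x)) (b x)
  have hj' : ∀ x, π (j x) = x.out⁻¹ * π (k x) * (b x).out := fun x => by rw [hj, cc, hk]
  have fix : ∀ (y : E) x, (b x).out⁻¹ * π ((k (π y • x))⁻¹ * y * k x) * (b x).out⁻¹⁻¹ ∈ π.range :=
    fun y x => by
    have e : π ((k (π y • x))⁻¹ * y * k x) • b x = b x := by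
      rw [map_mul, map_mul, mul_smul, mul_smul, hk, map_inv, inv_smul_eq_iff]
      conv_rhs => rw [← hb' y x, hk]
    have := cc_mem π (π ((k (π y • x))⁻¹ * y * k x)) (b x)
    rwa [cc, e, ← inv_inv (b x).out, inv_inv ((b x).out⁻¹)] at this
  let w : E → G ⧸ π.range → E := fun y x =>
    j (π y • x) * φ (b x).out⁻¹ ((k (π y • x))⁻¹ * y * k x) * (j x)⁻¹
  have hw : ∀ y x, π (w y x) = cc π (π y) x := fun y x => by
    simp only [w]
    rw [map_mul, map_mul, map_inv, h2 _ _ (fix y x), hj', hj', hb', cc]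
    simp only [map_mul, map_inv]
    group
  have hm : ∀ y z x, w (y * z) x = w y (π z • x) * w z x := fun y z x => by
    simp only [w]
    have a1 := fix y (π z • x)
    rw [hb'] at a1
    have a2 := h1 _ _ _ a1 (fix z x)
    rw [hb', map_mul, mul_smul]
    have e : (k (π y • π z • x))⁻¹ * (y * z) * k x =
        (k (π y • π z • x))⁻¹ * y * k (π z • x) * ((k (π z • x))⁻¹ * z * k x) := by group
    rw [e, a2]; group
  have hker : ∀ (a : π.ker) x, w a x = χ x.out⁻¹ a := fun a x => by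
    have ha : π a = 1 := a.2
    have e := chi_out hχ (π (k x)) (b x)
    rw [hk, hχ, one_mul] at e
    simp only [w]
    rw [ha, one_smul, Subgroup.mem_center_iff.1 (hc a.2), inv_mul_cancel_right, h3,
      Subgroup.mem_center_iff.1 (hc (χ _ a).2), mul_inv_cancel_right, map_inv, map_inv, e]
  exact ⟨MonoidHom.mk' (fun y => ⟨π y, w y, hw y⟩) fun y z => Wr.ext (map_mul π y z)
    (funext fun x => hm y z x), fun _ => rfl, fun a => Wr.ext a.2 (funext fun x => hker a x)⟩

theorem exists_ext_tw [Finite E] [Finite G] (hc : π.ker ≤ Subgroup.center E)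
    (hχ : ∀ y, χ (π y) = 1) (hst : ∀ g, Tw π χ g) (hm : ∀ a : π.ker, a ^ π.range.index = a) :
    ∃ (Γ : Type (max u v)) (_ : Group Γ) (_ : Finite Γ) (ξ : Γ →* G) (ψ : E →* Γ),
      Function.Surjective ξ ∧ (∀ y, ξ (ψ y) = π y) ∧ Function.Injective ψ ∧
      (∀ z, ξ z = 1 → ∃ a : π.ker, z = ψ a) ∧
      ∀ z (a : π.ker), z * ψ a * z⁻¹ = ψ (χ (ξ z) a) := by
  classical
  let _ := H60.kerCommGroup π hc
  have : Fintype (G ⧸ π.range) := Fintype.ofFinite _
  have : Finite (Wr π) := Finite.of_injective (fun a : Wr π => (a.g, a.f)) fun a b e =>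
    Wr.ext (congrArg Prod.fst e) (congrArg Prod.snd e)
  obtain ⟨ψ, hψ1, hψ2⟩ := exists_sec_tw hc hχ hst
  let s : (G ⧸ π.range → π.ker) →* π.ker :=
    MonoidHom.mk' (fun a => ∏ x, χ x.out (a x)) fun a b => by simp [Finset.prod_mul_distrib]
  have hs : ∀ (g : G) (a : G ⧸ π.range → π.ker), s (fun x => a (g⁻¹ • x)) = χ g (s a) := fun g a => by
    show ∏ x, _ = χ g (∏ x, _)
    rw [map_prod, ← Equiv.prod_comp (MulAction.toPerm g)]
    exact Finset.prod_congr rfl fun x _ => by simp [chi_out hχ]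
  have hsψ : ∀ a, s (fun x => χ x.out⁻¹ a) = a := fun a => by
    show ∏ x, _ = a
    simp only [map_inv, MulAut.apply_inv_self]
    rw [Finset.prod_const, Finset.card_univ, ← Nat.card_eq_fintype_card]
    exact hm a
  let N : Subgroup (Wr π) := s.ker.map (Wr.base π)
  have hN : N.Normal := ⟨by
    rintro _ ⟨a, ha, rfl⟩ g
    exact ⟨_, by rw [SetLike.mem_coe, MonoidHom.mem_ker, hs, MonoidHom.mem_ker.1 ha, map_one],
      (Wr.conj_base hc g a).symm⟩⟩
  have hNk : N ≤ (Wr.pr π).ker := by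
    rintro _ ⟨a, -, rfl⟩
    rfl
  have key : ∀ a, QuotientGroup.mk' N (Wr.base π a) = QuotientGroup.mk' N (ψ (s a)) := fun a => by
    rw [hψ2]
    exact QuotientGroup.eq.2 ⟨a⁻¹ * fun x => χ x.out⁻¹ (s a), by
      rw [SetLike.mem_coe, MonoidHom.mem_ker, map_mul, map_inv, hsψ, inv_mul_cancel], by
      rw [map_mul, map_inv]⟩
  refine ⟨Wr π ⧸ N, inferInstance, inferInstance, QuotientGroup.lift N (Wr.pr π) hNk,
    (QuotientGroup.mk' N).comp ψ, fun g => ?_, fun y => hψ1 y,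
    (injective_iff_map_eq_one _).2 fun y hy => ?_, fun z hz => ?_, fun z a => ?_⟩
  · obtain ⟨y, rfl⟩ := Wr.pr_surjective π g
    exact ⟨y, rfl⟩
  · obtain ⟨b, hb, e⟩ := (QuotientGroup.eq_one_iff _).1 hy
    have hy' : y ∈ π.ker := (hψ1 y).symm.trans (congrArg Wr.g e).symm
    obtain rfl := Wr.base_injective π (e.trans (hψ2 ⟨y, hy'⟩))
    exact congrArg Subtype.val ((hsψ _).symm.trans hb)
  · obtain ⟨y, rfl⟩ := QuotientGroup.mk_surjective z
    obtain ⟨a, rfl⟩ := Wr.exists_base (a := y) hz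
    exact ⟨_, key a⟩
  · obtain ⟨y, rfl⟩ := QuotientGroup.mk'_surjective N z
    rw [MonoidHom.comp_apply, ← map_inv, ← map_mul, ← map_mul, hψ2, Wr.conj_base hc, key,
      hs y.g fun x => χ x.out⁻¹ a, hsψ]
    rfl

theorem sxext_eq_defs : True := by
  have := @Tw.eq_1.{0, 0}
  trivial

end H93.SX
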