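import Mathlib
import Cfsg.Agent.Base
import Cfsg.Agent.Lib.R3.Bridge
import Cfsg.Agent.Lib.Fusion.Max2R

/-!
A `p`-group embedded in a finite group that induces a saturated fusion system on it: chains of
invariant subgroups and the linear groups induced on abelian sections.
-/

set_option autoImplicit false

namespace H93.SX

open Subgroup H2 H90 H91 Cfsg Cfsg.FusionSystem H93.R3
open H68 (SylowIn)
open scoped commutatorElement Pointwise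

local notation:max "𝐍(" A ")" => Subgroup.normalizer (SetLike.coe A)
local notation:max "𝐂(" A ")" => Subgroup.centralizer (SetLike.coe A)

universe u

variable {W : Type*} {Γ : Type u} {M : Type*} [Group W] [Group Γ] [AddCommGroup M] {p : ℕ}
  {ι : W →* Γ} {E A B C X : Subgroup W} {g h : Γ} {x y z x' y' t : W} {c : W → M}
  {φ ψ : M ≃ₗ[ℤ] M}

/-- Conjugation by `g` sends `x` to `y`. -/
def Cj (ι : W →* Γ) (g : Γ) (x y : W) : Prop := g * ι x * g⁻¹ = ι y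

/-- The normalizer of the image of `X`. -/
abbrev nr (ι : W →* Γ) (X : Subgroup W) : Subgroup Γ := 𝐍(X.map ι)

/-- The stabiliser of a chain. -/
def ch (E A B C : Subgroup Γ) : Subgroup Γ :=
  𝐍(E) ⊓ relCentralizer E A ⊓ relCentralizer A B ⊓ relCentralizer B C ⊓ 𝐂(C)

/-- A central series below `E`. -/
structure Se (E A B C : Subgroup W) : Prop where
  a : A ≤ E
  b : B ≤ A
  c : C ≤ B
  e1 : ∀ t : W, ∀ x ∈ E, ⁅t, x⁆ ∈ A
  e2 : ∀ t : W, ∀ x ∈ A, ⁅t, x⁆ ∈ B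
  e3 : ∀ t : W, ∀ x ∈ B, ⁅t, x⁆ ∈ C
  e4 : ∀ t : W, ∀ x ∈ C, ⁅t, x⁆ = 1

/-- A saturated configuration. -/
structure Cf (p : ℕ) (ι : W →* Γ) : Prop where
  inj : Function.Injective ι
  pg : IsPGroup p W
  sat : (groupFusionSystem ι.range).IsSaturated p

/-- The image of `E` is essential. -/
def Es (p : ℕ) (ι : W →* Γ) (E : Subgroup W) : Prop :=
  (groupFusionSystem ι.range).IsEssential p (E.map ι)

theorem Cj.one : Cj ι 1 x x := by simp [Cj]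
theorem Cj.self (s x : W) : Cj ι (ι s) x (s * x * s⁻¹) := by simp [Cj]
theorem Cj.trans (a : Cj ι g y z) (b : Cj ι h x y) : Cj ι (g * h) x z := by
  rw [Cj, ← a, ← b]; group
theorem Cj.symm (a : Cj ι g x y) : Cj ι g⁻¹ y x := by rw [Cj, ← a]; group
theorem Cj.mul (a : Cj ι g x y) (b : Cj ι g x' y') : Cj ι g (x * x') (y * y') := by
  rw [Cj, map_mul, map_mul, ← a, ← b]; group
theorem Cj.inv (a : Cj ι g x y) : Cj ι g x⁻¹ y⁻¹ := by rw [Cj, map_inv, map_inv, ← a]; group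
theorem Cj.pow (a : Cj ι g x y) (n : ℕ) : Cj ι g (x ^ n) (y ^ n) := by
  rw [Cj, map_pow, map_pow, ← a, conj_pow]
theorem Cj.comm (a : Cj ι g x y) (b : Cj ι g x' y') : Cj ι g ⁅x, x'⁆ ⁅y, y'⁆ :=
  ((a.mul b).mul a.inv).mul b.inv
theorem Cj.uniq (i : Function.Injective ι) (a : Cj ι g x y) (b : Cj ι g x z) : y = z :=
  i ((Eq.symm a).trans b)
theorem Cj.of_cent (a : g ∈ 𝐂(X.map ι)) (hx : x ∈ X) : Cj ι g x x := conj_eq a ⟨x, hx, rfl⟩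
theorem Cj.comp {W' : Type*} [Group W'] {η : W' →* W} {x y : W'} :
    Cj (ι.comp η) g x y ↔ Cj ι g (η x) (η y) := Iff.rfl

theorem nr_cj (hg : g ∈ nr ι X) (hx : x ∈ X) : ∃ y ∈ X, Cj ι g x y :=
  let ⟨y, hy, e⟩ := conj_mem hg ⟨x, hx, rfl⟩; ⟨y, hy, e.symm⟩

theorem nr_cj' (hg : g ∈ nr ι X) (hy : y ∈ X) : ∃ x ∈ X, Cj ι g x y :=
  let ⟨x, hx, e⟩ := nr_cj (inv_mem hg) hy; ⟨x, hx, by simpa using e.symm⟩

theorem Cj.mem (i : Function.Injective ι) (a : Cj ι g x y) (hg : g ∈ nr ι X) (hx : x ∈ X) : y ∈ X :=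
  let ⟨_, hz, e⟩ := nr_cj hg hx; e.uniq i a ▸ hz

theorem Cj.mem' (i : Function.Injective ι) (a : Cj ι g x y) (hg : g ∈ nr ι X) (hy : y ∈ X) : x ∈ X :=
  a.symm.mem i (inv_mem hg) hy

theorem cent_of_cj (h : ∀ x ∈ X, Cj ι g x x) : g ∈ 𝐂(X.map ι) := by
  rintro _ ⟨x, hx, rfl⟩
  exact (mul_inv_eq_iff_eq_mul.1 (h x hx)).symm

theorem nr_bot : g ∈ nr ι ⊥ := by rw [nr, Subgroup.map_bot]; exact norm_bot ⊤ (mem_top g)

theorem nr_top : nr ι ⊤ = 𝐍(ι.range) := by rw [nr, ← MonoidHom.range_eq_map]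

variable [Finite Γ]

theorem mem_nr (h : ∀ x ∈ X, ∃ y ∈ X, Cj ι g x y) : g ∈ nr ι X := mem_norm (by
  rintro _ ⟨x, hx, rfl⟩
  obtain ⟨y, hy, e⟩ := h x hx
  exact ⟨y, hy, Eq.symm e⟩)

theorem mem_nr_of (hE : g ∈ nr ι E) (hA : A ≤ E) (h : ∀ x ∈ A, ∀ y ∈ E, Cj ι g x y → y ∈ A) :
    g ∈ nr ι A := mem_nr fun x hx => let ⟨y, hy, e⟩ := nr_cj hE (hA hx); ⟨y, h x hx y hy e, e⟩

theorem self_nr (h : ∀ x ∈ X, ⁅t, x⁆ ∈ X) : ι t ∈ nr ι X := mem_nr fun x hx =>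
  ⟨_, by simpa [commutatorElement_def] using mul_mem (h x hx) hx, Cj.self t x⟩

theorem nr_rc (i : Function.Injective ι) (n : ℕ) (hE : g ∈ nr ι E) (hX : g ∈ nr ι X)
    (hB : g ∈ nr ι B) (hA : ∀ x, x ∈ A ↔ x ∈ E ∧ x ^ n ∈ B ∧ ∀ y ∈ X, ⁅x, y⁆ ∈ B) : g ∈ nr ι A :=
  mem_nr_of hE (fun x hx => ((hA x).1 hx).1) fun x hx y hy e => (hA y).2
    ⟨hy, (e.pow n).mem i hB ((hA x).1 hx).2.1, fun z hz =>
      let ⟨w, hw, e'⟩ := nr_cj' hX hz; (e.comm e').mem i hB (((hA x).1 hx).2.2 w hw)⟩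

theorem mem_rc_map (hA : g ∈ nr ι A) (h : ∀ x ∈ X, ∃ y, Cj ι g x y ∧ y * x⁻¹ ∈ A) :
    g ∈ relCentralizer (X.map ι) (A.map ι) := ⟨hA, by
  rintro _ ⟨x, hx, rfl⟩
  obtain ⟨y, e, hy⟩ := h x hx
  exact ⟨_, hy, by rw [map_mul, map_inv, ← e]; rfl⟩⟩

theorem mem_ch (a : A ≤ E) (b : B ≤ A) (c : C ≤ B) (e1 : ∀ x ∈ E, ∃ y, Cj ι g x y ∧ y * x⁻¹ ∈ A)
    (e2 : ∀ x ∈ A, ∃ y, Cj ι g x y ∧ y * x⁻¹ ∈ B) (e3 : ∀ x ∈ B, ∃ y, Cj ι g x y ∧ y * x⁻¹ ∈ C)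
    (e4 : ∀ x ∈ C, Cj ι g x x) : g ∈ ch (E.map ι) (A.map ι) (B.map ι) (C.map ι) := by
  have k : ∀ {X Y : Subgroup W}, Y ≤ X → (∀ x ∈ X, ∃ y, Cj ι g x y ∧ y * x⁻¹ ∈ Y) → g ∈ nr ι X :=
    fun h e => mem_nr fun x hx => let ⟨y, e1, e2⟩ := e x hx; ⟨y, mem_of_div (h e2) hx, e1⟩
  exact ⟨⟨⟨⟨k a e1, mem_rc_map (k b e2) e1⟩, mem_rc_map (k c e3) e2⟩,
    mem_rc_map (cent_le_norm _ (cent_of_cj e4)) e3⟩, cent_of_cj e4⟩

theorem self_ch (a : A ≤ E) (b : B ≤ A) (c : C ≤ B) (e1 : ∀ x ∈ E, ⁅t, x⁆ ∈ A)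
    (e2 : ∀ x ∈ A, ⁅t, x⁆ ∈ B) (e3 : ∀ x ∈ B, ⁅t, x⁆ ∈ C) (e4 : ∀ x ∈ C, ⁅t, x⁆ = 1) :
    ι t ∈ ch (E.map ι) (A.map ι) (B.map ι) (C.map ι) :=
  mem_ch a b c (fun x hx => ⟨_, Cj.self t x, e1 x hx⟩) (fun x hx => ⟨_, Cj.self t x, e2 x hx⟩)
    (fun x hx => ⟨_, Cj.self t x, e3 x hx⟩) fun x hx => by
      have := Cj.self (ι := ι) t x
      rwa [mul_inv_eq_one.1 (e4 x hx)] at this

omit [Finite Γ] in
theorem ch_le {E A B C : Subgroup Γ} : ch E A B C ≤ 𝐍(E) := fun _ h => h.1.1.1.1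

theorem norm_ch {E A B C : Subgroup Γ} (e : g ∈ 𝐍(E)) (a : g ∈ 𝐍(A)) (b : g ∈ 𝐍(B))
    (c : g ∈ 𝐍(C)) : g ∈ 𝐍(ch E A B C) := by
  rw [← zpowers_le] at *
  exact norm_inf (norm_inf (norm_inf (norm_inf (norm_norm e) (norm_rc e a)) (norm_rc a b))
    (norm_rc b c)) (norm_cent c)

omit [Finite Γ] in
theorem cent_of_ch {E A B C : Subgroup Γ} (a : IsPGroup p A) (b : IsPGroup p B) (c : IsPGroup p C)
    (hg : g ∈ ch E A B C) (h : (orderOf g).Coprime p) : g ∈ 𝐂(E) := by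
  have k : ∀ {X Y : Subgroup Γ}, IsPGroup p Y → g ∈ relCentralizer X Y → g ∈ 𝐂(Y) → g ∈ 𝐂(X) :=
    fun q e e' => mem_cent fun y hy => mem_bot.1 (comm_mem_of_coprime q h (norm_bot ⊤ (mem_top g))
      (e.2 y hy) fun _ hz => mem_bot.2 (comm_eq_one e' hz))
  exact k a hg.1.1.1.2 (k b hg.1.1.2 (k c hg.1.2 hg.2))

variable [hp : Fact p.Prime] (F : Cf p ι)
include F

omit [Finite Γ] hp in
theorem Cf.pm (X : Subgroup W) : IsPGroup p (X.map ι) := (F.pg.to_subgroup X).map ι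

omit [Finite Γ] hp in
theorem Cf.pr : IsPGroup p ι.range := F.pg.of_surjective _ ι.rangeRestrict_surjective

omit [Finite Γ] hp in
theorem Cf.comp {W' : Type*} [Group W'] (η : W' ≃* W) : Cf p (ι.comp η.toMonoidHom) :=
  ⟨F.inj.comp η.injective, F.pg.of_equiv η.symm, by
    rw [MonoidHom.range_comp, MonoidHom.range_eq_top.2 η.surjective, ← MonoidHom.range_eq_map]
    exact F.sat⟩

omit F [Finite Γ] hp in
theorem Es.comp {W' : Type*} [Group W'] (η : W' ≃* W) {E : Subgroup W'} :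
    Es p (ι.comp η.toMonoidHom) E ↔ Es p ι (E.map η.toMonoidHom) := by
  rw [Es, Es, map_map]
  congr! 2
  rw [MonoidHom.range_comp, MonoidHom.range_eq_top.2 η.surjective, ← MonoidHom.range_eq_map]

omit [Finite Γ] hp in
theorem Es.cent (h : Es p ι E) (e : ∀ x ∈ E, ⁅t, x⁆ = 1) : t ∈ E :=
  (mem_map_iff_mem F.inj).1 (ess_cent h ⟨⟨t, rfl⟩, mem_cent (by
    rintro _ ⟨x, hx, rfl⟩
    rw [← map_commutatorElement, e x hx, map_one])⟩)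

theorem Es.ne (h : Es p ι E) : E ≠ ⊤ := by
  rintro rfl
  exact (lt_of_isEssential F.pr F.sat h).ne (MonoidHom.range_eq_map ι).symm

theorem Es.chain (h : Es p ι E) (a : nr ι E ≤ nr ι A) (b : nr ι E ≤ nr ι B) (c : nr ι E ≤ nr ι C)
    (ht : ι t ∈ ch (E.map ι) (A.map ι) (B.map ι) (C.map ι)) : t ∈ E := by
  obtain ⟨M, -, h2, -, h4⟩ := exists_emb F.pr F.sat h
  by_contra ht'
  have h5 : ι t ∉ E.map ι := mt (mem_map_iff_mem F.inj).1 ht'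
  exact h2 fun g hg => h4 _ ⟨⟨t, rfl⟩, ht.1.1.1.1⟩ h5 _ ⟨⟨t, rfl⟩, ht.1.1.1.1⟩ h5 g hg _
    ch_le (fun x hx => cent_of_ch (F.pm A) (F.pm B) (F.pm C) hx) ht
    (conj_mem (norm_ch hg (a hg) (b hg) (c hg)) ht)

theorem Se.not (s : Se E A B C) (h : Es p ι E) (a : nr ι E ≤ nr ι A) (b : nr ι E ≤ nr ι B)
    (c : nr ι E ≤ nr ι C) : False := h.ne F (eq_top_iff.2 fun t _ =>
  h.chain F a b c (self_ch s.a s.b s.c (s.e1 t) (s.e2 t) (s.e3 t) (s.e4 t)))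

omit F hp in
theorem le_nr (h : ∀ t : W, ∀ x ∈ E, ⁅t, x⁆ ∈ E) : ι.range ≤ nr ι E := by
  rintro _ ⟨t, rfl⟩
  exact self_nr (h t)

omit F hp in
theorem fn_of (h : ∀ t : W, ∀ x ∈ E, ⁅t, x⁆ ∈ E) :
    (groupFusionSystem ι.range).IsFullyNormalized (E.map ι) :=
  isFullyNormalized_of_le_normalizer (map_le_range ι E) (le_nr h)

theorem Se.ch_eq (s : Se E A B C) :
    ch (E.map ι) (A.map ι) (B.map ι) (C.map ι) = ι.range ⊓ nr ι E ⊔ 𝐂(E.map ι) := by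
  have h1 : ι.range ⊓ nr ι E ⊔ 𝐂(E.map ι) ≤ ch (E.map ι) (A.map ι) (B.map ι) (C.map ι) :=
    sup_le (by
      rintro _ ⟨⟨t, rfl⟩, -⟩
      exact self_ch s.a s.b s.c (s.e1 t) (s.e2 t) (s.e3 t) (s.e4 t)) fun g hg =>
      mem_ch s.a s.b s.c (fun x hx => ⟨x, .of_cent hg hx, by simp⟩)
        (fun x hx => ⟨x, .of_cent hg (s.a hx), by simp⟩)
        (fun x hx => ⟨x, .of_cent hg (s.a (s.b hx)), by simp⟩)
        fun x hx => .of_cent hg (s.a (s.b (s.c hx)))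
  exact le_antisymm (le_of_syl h1 ((lg_mono ch_le).trans
    (lg_norm F.pr F.sat (fn_of fun t x hx => s.a (s.e1 t x hx)))) le_rfl fun x hx e =>
      mem_sup_right (cent_of_ch (F.pm A) (F.pm B) (F.pm C) hx e)) h1

omit F hp [Finite Γ] in
theorem exists_of_sup {L : Subgroup Γ} (hL : L ≤ nr ι E) (hg : g ∈ L ⊔ 𝐂(E.map ι)) :
    ∃ k ∈ L, ∀ x ∈ E, ∀ y, Cj ι g x y → Cj ι k x y := by
  obtain ⟨k, hk, d, hd, rfl⟩ := (mem_sup_iff' (hL.trans (norm_cent le_rfl))).1 hg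
  exact ⟨k, hk, fun x hx y e => by simpa using e.trans (.of_cent (inv_mem hd) hx)⟩

theorem Se.inner (s : Se E A B C) (hg : g ∈ ch (E.map ι) (A.map ι) (B.map ι) (C.map ι)) :
    ∃ t, ∀ x ∈ E, Cj ι g x (t * x * t⁻¹) := by
  obtain ⟨_, ⟨⟨t, rfl⟩, -⟩, e⟩ := exists_of_sup inf_le_right (s.ch_eq F ▸ hg)
  refine ⟨t, fun x hx => ?_⟩
  obtain ⟨y, -, e'⟩ := nr_cj hg.1.1.1.1 hx
  exact (e x hx y e').uniq F.inj (Cj.self t x) ▸ e'

theorem Se.ext (s : Se E A B C) (e : g ∈ nr ι E) (a : g ∈ nr ι A) (b : g ∈ nr ι B)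
    (c : g ∈ nr ι C) : ∃ k ∈ nr ι E ⊓ nr ι ⊤, ∀ x ∈ E, ∀ y, Cj ι g x y → Cj ι k x y := by
  have n := fun t x hx => s.a (s.e1 t x hx)
  have := mem_of_norm F.pr F.sat (fn_of n) e (s.ch_eq F ▸ norm_ch e a b c)
  rw [inf_eq_left.2 (le_nr n), ← nr_top] at this
  exact exists_of_sup inf_le_left this

theorem Es.cn (h : Es p ι E) (hg : g ∈ nr ι ⊤) : ∃ E', Es p ι E' ∧ E'.map ι = cn g (E.map ι) := by
  rw [nr_top] at hg
  have r : (groupFusionSystem ι.range).IsRealizedBy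
      ((MulAut.conj g⁻¹).toMonoidHom.comp ι.range.subtype) :=
    ⟨(MulAut.conj g⁻¹).injective.comp Subtype.val_injective, fun P hP φ hφ =>
      ⟨fun ⟨_, _, k, e⟩ => ⟨g⁻¹ * k * g, fun x => by simp [e x, mul_assoc]⟩,
        fun ⟨k, e⟩ => ⟨hP, hφ, g * k * g⁻¹, fun x => by
          have := e x
          simp only [MonoidHom.comp_apply, MulEquiv.coe_toMonoidHom, MulAut.conj_apply, coe_subtype,
            inv_inv] at this
          rw [show φ x = g * (g⁻¹ * φ x * g) * g⁻¹ by group, this]; group⟩⟩⟩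
  obtain ⟨θ, h1, h2, h3⟩ := exists_quot_of_real (groupFusionSystem_isRealizedBy ι.range) r (by
    rw [MonoidHom.range_comp, range_subtype]; exact (cn_eq (inv_mem hg)).symm)
  have h4 : ∀ x ∈ ι.range, ex θ x = g * x * g⁻¹ := fun x hx => by
    have := h3 x hx
    rw [ex_of_mem _ (h1.range.le (ex_mem_range θ hx)), ex_of_mem ι.range.subtype hx] at this
    simp only [MonoidHom.comp_apply, MulEquiv.coe_toMonoidHom, MulAut.conj_apply, coe_subtype,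
      inv_inv] at this
    generalize ex θ x = y at this
    rw [← this]; group
  have h5 : imageAlong θ (E.map ι) = R3.cn g (E.map ι) := by
    ext y
    rw [mem_imageAlong' (map_le_range ι E)]
    exact ⟨fun ⟨x, hx, e⟩ => e ▸ h4 x (map_le_range ι E hx) ▸ conj_mem_cn hx, fun hy =>
      ⟨_, mem_cn.1 hy, by rw [h4 _ (map_le_range ι E (mem_cn.1 hy))]; group⟩⟩
  have h6 := h5 ▸ ess_image F.pr F.sat h1 h2 h
  have h7 := map_comap_eq_self h6.1.1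
  exact ⟨_, by rwa [Es, h7], h7⟩

/-- A centric subgroup below all essential subgroups and invariant under their automizers. -/
theorem Cf.real (c : ∀ t : W, (∀ x ∈ X, ⁅t, x⁆ = 1) → t ∈ X) (h1 : nr ι ⊤ ≤ nr ι X)
    (h2 : ∀ E, Es p ι E → E = X) : (groupFusionSystem ι.range).IsRealizable p := by
  refine isRealizable_of_isNormal F.pr F.sat (Q := X.map ι) (isNormal_of_essential F.pr F.sat
    fun P hP => ?_) ?_
  · have : X.map ι ≤ P ∧ 𝐍(P) ≤ nr ι X := hP.elim (fun e => e ▸ ⟨map_le_range ι X, nr_top (ι := ι) ▸ h1⟩)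
      fun e => by
        have h7 := map_comap_eq_self e.1.1
        rw [← h2 (P.comap ι) (by rwa [Es, h7]), nr, h7]
        exact ⟨le_rfl, le_rfl⟩
    refine ⟨this.1, fun σ hσ x hx => ?_⟩
    obtain ⟨g, hg, e⟩ := norm_of_iso hσ
    exact e x (this.1 hx) ▸ conj_mem (this.2 hg) hx
  · rintro _ ⟨⟨t, rfl⟩, ht⟩
    exact ⟨t, c t fun x hx => F.inj (by
      rw [map_commutatorElement, map_one]; exact comm_eq_one ht ⟨x, hx, rfl⟩), rfl⟩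

theorem Cf.real_of_uniq (h : ∀ E E', Es p ι E → Es p ι E' → E = E') :
    (groupFusionSystem ι.range).IsRealizable p := by
  by_cases e : ∃ E, Es p ι E
  · obtain ⟨E, e⟩ := e
    refine F.real (fun _ => e.cent F) (fun g hg => ?_) fun E' e' => h _ _ e' e
    obtain ⟨E', h1, h2⟩ := e.cn F hg
    exact cn_eq_iff.1 (by rw [← h2, h _ _ h1 e])
  · exact F.real (fun _ _ => mem_top _) le_rfl fun E e' => (e ⟨E, e'⟩).elim

theorem Cf.exists_core (h : (groupFusionSystem ι.range).core ≠ ⊥) : ∃ N : Subgroup W, N ≠ ⊥ ∧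
    nr ι ⊤ ≤ nr ι N ∧ ∀ E, Es p ι E → N ≤ E ∧ nr ι E ≤ nr ι N := by
  have h1 := (isNormal_iff_essential F.pr F.sat).1 (isNormal_core (groupFusionSystem ι.range))
  have h2 := map_comap_eq_self (h1 _ (Or.inl rfl)).1
  have h3 : ∀ P, (P = ι.range ∨ (groupFusionSystem ι.range).IsEssential p P) → P ≤ ι.range →
      𝐍(P) ≤ nr ι ((groupFusionSystem ι.range).core.comap ι) := fun P hP e g hg => by
    rw [nr, h2]
    have i := iso_cn e ((cn_eq hg).le.trans e)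
    rw [cn_eq hg] at i
    exact mem_norm ((h1 P hP).2 _ i)
  exact ⟨_, fun e => h (by rw [← h2, e, Subgroup.map_bot]), nr_top (ι := ι) ▸ h3 _ (Or.inl rfl) le_rfl,
    fun E hE => ⟨fun x hx => (mem_map_iff_mem F.inj).1 ((h1 _ (Or.inr hE)).1 hx),
      h3 _ (Or.inr hE) hE.1.1⟩⟩

theorem Cf.alperin {Γ' : Type*} [Group Γ'] {ι' : W →* Γ'} (h : ∀ E, (E = ⊤ ∨ Es p ι E) →
    ∀ g ∈ nr ι E, ∃ k, ∀ x ∈ E, ∀ y, Cj ι g x y → Cj ι' k x y) (hg : ∀ x ∈ X, ∃ y, Cj ι g x y) :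
    ∃ k, ∀ x ∈ X, ∀ y, Cj ι g x y → Cj ι' k x y := by
  obtain ⟨σ, ⟨k, hk⟩, e⟩ := alperin_induction F.pr F.sat (P := X.map ι) (f := cj g)
    (C := fun P σ => ∃ k, ∀ x y, ι x ∈ P → σ (ι x) = ι y → Cj ι' k x y)
    (fun P R σ hR hσ hP => by
      obtain ⟨g, hg, e⟩ := norm_of_iso hσ
      have h7 := map_comap_eq_self hσ.1.le
      obtain ⟨k, hk⟩ := h (R.comap ι) (hR.imp (fun e => eq_top_iff.2 fun x _ => e.ge ⟨x, rfl⟩)
        fun e => by rwa [Es, h7]) g (by rwa [nr, h7])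
      exact ⟨k, fun x y hx e' => hk x (hP hx) y ((e _ (hP hx)).symm.trans e')⟩)
    (by
      rintro P Q σ τ hσ - ⟨k, hk⟩ ⟨l, hl⟩ m
      refine ⟨l * k, fun x y hx e => ?_⟩
      obtain ⟨z, hz⟩ := hσ.mem hx
      exact (hl z y (hz ▸ m _ hx) (hz ▸ e)).trans (hk x z hx hz.symm))
    (map_group.2 ⟨map_le_range ι X, by
      rintro _ ⟨x, hx, rfl⟩
      obtain ⟨y, e⟩ := hg x hx
      exact ⟨y, Eq.symm e⟩, g, fun _ _ => rfl⟩)
  exact ⟨k, fun x hx y e' => hk x y ⟨x, hx, rfl⟩ ((e _ ⟨x, hx, rfl⟩).trans e')⟩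

omit F

section Rep

omit [Finite Γ] hp

/-- `φ` is the action of `g` in the coordinates `c`. -/
def Ac (ι : W →* Γ) (E : Subgroup W) (c : W → M) (g : Γ) (φ : M ≃ₗ[ℤ] M) : Prop :=
  g ∈ nr ι E ∧ ∀ x ∈ E, ∀ y ∈ E, Cj ι g x y → φ • c x = c y

theorem Ac.mul (a : Ac ι E c g φ) (b : Ac ι E c h ψ) : Ac ι E c (g * h) (φ * ψ) :=
  ⟨mul_mem a.1 b.1, fun x hx y hy e => by
    obtain ⟨z, hz, e'⟩ := nr_cj b.1 hx
    rw [mul_smul, b.2 x hx z hz e', a.2 z hz y hy (by simpa using e.trans e'.symm)]⟩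

theorem Ac.inv (a : Ac ι E c g φ) : Ac ι E c g⁻¹ φ⁻¹ :=
  ⟨inv_mem a.1, fun x hx y hy e => by
    rw [inv_smul_eq_iff, a.2 y hy x hx (by simpa using e.symm)]⟩

/-- The linear group induced by `L`. -/
def au {ι : W →* Γ} (i : Function.Injective ι) (E : Subgroup W) (c : W → M) (L : Subgroup Γ) :
    Subgroup (M ≃ₗ[ℤ] M) where
  carrier := {φ | ∃ g ∈ L, Ac ι E c g φ}
  one_mem' := ⟨1, one_mem _, one_mem _, fun x _ y _ e => by rw [one_smul, e.uniq i .one]⟩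
  mul_mem' := fun ⟨_, a, b⟩ ⟨_, a', b'⟩ => ⟨_, mul_mem a a', b.mul b'⟩
  inv_mem' := fun ⟨_, a, b⟩ => ⟨_, inv_mem a, b.inv⟩

/-- Additive coordinates on `E` with invariant kernel. -/
structure Co (ι : W →* Γ) (E : Subgroup W) (c : W → M) : Prop where
  add : ∀ x ∈ E, ∀ y ∈ E, c (x * y) = c x + c y
  surj : ∀ m, ∃ x ∈ E, c x = m
  ker : ∀ g ∈ nr ι E, ∀ x ∈ E, ∀ y ∈ E, Cj ι g x y → c x = 0 → c y = 0

variable (o : Co ι E c)
include o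

theorem Co.one : c 1 = 0 := by simpa using o.add 1 (one_mem E) 1 (one_mem E)

theorem Co.div (hx : x ∈ E) (hy : y ∈ E) : c (x * y⁻¹) = c x - c y := by
  rw [eq_sub_iff_add_eq, ← o.add _ (mul_mem hx (inv_mem hy)) y hy, inv_mul_cancel_right]

theorem Co.uniq (a : Ac ι E c g φ) (b : Ac ι E c g ψ) : φ = ψ := eq_of_smul_eq_smul fun m : M => by
  obtain ⟨x, hx, rfl⟩ := o.surj m
  obtain ⟨y, hy, e⟩ := nr_cj a.1 hx
  rw [a.2 x hx y hy e, b.2 x hx y hy e]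

theorem Co.ac (hg : g ∈ nr ι E) (h : ∀ m, ∃ x ∈ E, ∃ y ∈ E, Cj ι g x y ∧ c x = m ∧ φ • m = c y) :
    Ac ι E c g φ := ⟨hg, fun x hx y hy e => by
  obtain ⟨x', hx', y', hy', e', e1, e2⟩ := h (c x)
  have := o.ker g hg _ (mul_mem hx' (inv_mem hx)) _ (mul_mem hy' (inv_mem hy)) (e'.mul e.inv)
    (by rw [o.div hx' hx, e1, sub_self])
  rw [o.div hy' hy, sub_eq_zero] at this
  rw [e2, this]⟩

theorem Co.exists_ac (hg : g ∈ nr ι E) : ∃ φ, Ac ι E c g φ := by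
  have key : ∀ g ∈ nr ι E, ∃ f : M →+ M, ∀ x ∈ E, ∀ y ∈ E, Cj ι g x y → f (c x) = c y := fun g hg => by
    choose s hs e using o.surj
    choose a ha e' using fun m => nr_cj hg (hs m)
    have k : ∀ x ∈ E, ∀ y ∈ E, Cj ι g x y → c (a (c x)) = c y := fun x hx y hy h => by
      have := o.ker g hg _ (mul_mem (hs (c x)) (inv_mem hx)) _ (mul_mem (ha (c x)) (inv_mem hy))
        ((e' _).mul h.inv) (by rw [o.div (hs _) hx, e, sub_self])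
      rwa [o.div (ha _) hy, sub_eq_zero] at this
    refine ⟨AddMonoidHom.mk' (fun m => c (a m)) fun m n => ?_, k⟩
    have := k _ (mul_mem (hs m) (hs n)) _ (mul_mem (ha m) (ha n)) ((e' m).mul (e' n))
    rwa [o.add _ (hs m) _ (hs n), e, e, o.add _ (ha m) _ (ha n)] at this
  obtain ⟨f, hf⟩ := key g hg
  obtain ⟨f', hf'⟩ := key g⁻¹ (inv_mem hg)
  refine ⟨AddEquiv.toIntLinearEquiv { f with invFun := f', left_inv := fun m => ?_, right_inv := fun m => ?_ }, hg, hf⟩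
  all_goals obtain ⟨x, hx, rfl⟩ := o.surj m
  · obtain ⟨y, hy, e⟩ := nr_cj hg hx
    exact (congrArg f' (hf x hx y hy e)).trans (hf' y hy x hx e.symm)
  · obtain ⟨y, hy, e⟩ := nr_cj' hg hx
    exact (congrArg f (hf' x hx y hy e.symm)).trans (hf y hy x hx e)

end Rep

theorem Co.syl (F : Cf p ι) (o : Co ι E c) (h : (groupFusionSystem ι.range).IsFullyNormalized (E.map ι)) :
    SylowIn p (au F.inj E c ι.range) (au F.inj E c ⊤) := by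
  choose f hf using fun g : nr ι E => o.exists_ac g.2
  let ρ : nr ι E →* M ≃ₗ[ℤ] M := MonoidHom.mk' f fun a b => o.uniq (hf _) ((hf a).mul (hf b))
  obtain ⟨P, h1, h2, h3⟩ := R3.exists_syl (F.pr.to_le inf_le_left)
    (le_sup_left : ι.range ⊓ nr ι E ≤ _ ⊔ 𝐂(E.map ι))
  convert sylowIn_map_sub (h3 _ (sup_le inf_le_right (cent_le_norm _)) (lg_norm F.pr F.sat h)) ρ
  · ext φ
    refine ⟨fun ⟨g, hg, a⟩ => ⟨⟨g, a.1⟩, h1 ⟨hg, a.1⟩, o.uniq (hf _) a⟩, ?_⟩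
    rintro ⟨g, hg, rfl⟩
    obtain ⟨k, hk, e⟩ := exists_of_sup inf_le_right (h2 hg)
    refine ⟨k, hk.1, o.ac hk.2 fun m => ?_⟩
    obtain ⟨x, hx, rfl⟩ := o.surj m
    obtain ⟨y, hy, e'⟩ := nr_cj g.2 hx
    exact ⟨x, hx, y, hy, e x hx y e', rfl, (hf g).2 x hx y hy e'⟩
  · ext φ
    exact ⟨fun ⟨g, _, a⟩ => ⟨⟨g, a.1⟩, o.uniq (hf _) a⟩, fun ⟨g, e⟩ => ⟨g, trivial, e ▸ hf g⟩⟩

theorem sxch_eq_defs : True := by
  have := @Cj.eq_1.{0, 0}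
  have := @nr.eq_1.{0, 0}
  have := @ch.eq_1.{0}
  have := @Es.eq_1.{0, 0}
  have := @Ac.eq_1.{0, 0, 0}
  have := @au.eq_1.{0, 0, 0}
  trivial

end H93.SX
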