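import Mathlib
import Cfsg.Agent.Base
import Cfsg.Agent.Lib.Fusion.Heis

/-!
Finite groups acting on abelian `p`-groups with a Sylow `p`-subgroup that stabilises a short chain:
trivial-intersection lemmas and the copy of `SL₂(q)` generated by two groups of shears.
-/

set_option autoImplicit false

namespace H93.SX

open Subgroup
open H68 (SylowIn)

variable {G M : Type*} [Group G] [AddCommGroup M] [DistribMulAction G M] {p : ℕ}
  {H U L : Subgroup G} {A B R Y : AddSubgroup M} {g h : G}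

variable (G) in
/-- The stabiliser of the chain `M ≥ B ≥ A ≥ 0`. -/
def st (A B : AddSubgroup M) : Subgroup G where
  carrier := {α | (∀ x, α • x - x ∈ B) ∧ (∀ x ∈ B, α • x - x ∈ A) ∧ ∀ x ∈ A, α • x = x}
  one_mem' := ⟨fun x => by simp, fun x _ => by simp, fun x _ => one_smul _ x⟩
  mul_mem' := by
    rintro α β ⟨a1, a2, a3⟩ ⟨b1, b2, b3⟩
    refine ⟨fun x => ?_, fun x hx => ?_, fun x hx => by rw [mul_smul, b3 x hx, a3 x hx]⟩
    · simpa [mul_smul] using add_mem (a1 (β • x)) (b1 x)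
    · simpa [mul_smul] using add_mem (a2 (β • x) (by simpa using add_mem (b1 x) hx)) (b2 x hx)
  inv_mem' := by
    rintro α ⟨a1, a2, a3⟩
    refine ⟨fun x => ?_, fun x hx => ?_, fun x hx => by rw [inv_smul_eq_iff, a3 x hx]⟩
    · simpa using neg_mem (a1 (α⁻¹ • x))
    · simpa using neg_mem (a2 (α⁻¹ • x) (by simpa using sub_mem hx (a1 (α⁻¹ • x))))

variable (G) in
/-- The stabiliser of `A`. -/
def sb (A : AddSubgroup M) : Subgroup G where
  carrier := {α | ∀ x, α • x ∈ A ↔ x ∈ A}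
  one_mem' := fun x => by rw [one_smul]
  mul_mem' := fun {a b} ha hb x => by rw [mul_smul, ha, hb]
  inv_mem' := fun {a} ha x => by rw [← ha, smul_inv_smul]

/-- The elements of `Y` that `g` keeps in `Y`. -/
def dd (g : G) (Y : AddSubgroup M) : AddSubgroup M :=
  Y ⊓ Y.comap (DistribSMul.toAddMonoidHom M g)

theorem mem_dd {x : M} : x ∈ dd g Y ↔ x ∈ Y ∧ g • x ∈ Y := Iff.rfl

theorem mem_st : g ∈ st G A B ↔
    (∀ x, g • x - x ∈ B) ∧ (∀ x ∈ B, g • x - x ∈ A) ∧ ∀ x ∈ A, g • x = x := Iff.rfl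

theorem sb_iff (hg : g ∈ sb G A) {x : M} : g • x ∈ A ↔ x ∈ A := hg x

theorem sb_mem (hg : g ∈ sb G A) {x : M} (hx : x ∈ A) : g • x ∈ A := (hg x).2 hx

theorem mem_sb [Finite G] (hg : ∀ x ∈ A, g • x ∈ A) : g ∈ sb G A := fun x => ⟨fun hx => by
  have key : ∀ k : ℕ, ∀ y ∈ A, g ^ k • y ∈ A := fun k => by
    induction k with
    | zero => simp
    | succ k ih => exact fun y hy => by rw [pow_succ, mul_smul]; exact ih _ (hg y hy)
  have := key (orderOf g - 1) _ hx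
  rwa [← mul_smul, ← pow_succ, Nat.sub_add_cancel (orderOf_pos g), pow_orderOf_eq_one,
    one_smul] at this, hg x⟩

theorem exists_of_not_sb [Finite G] (hg : g ∉ sb G A) : ∃ x ∈ A, g • x ∉ A := by
  by_contra! e
  exact hg (mem_sb e)

theorem st_le_sb (hA : A ≤ B) : st G A B ≤ sb G A ⊓ sb G B := fun g hg =>
  ⟨fun x => ⟨fun e => by have := (inv_mem hg).2.2 _ e; rw [inv_smul_smul] at this; exact this ▸ e,
    fun e => by rwa [hg.2.2 x e]⟩, fun x =>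
    ⟨fun e => by simpa using sub_mem e (hg.1 x), fun e => by simpa using add_mem (hg.1 x) e⟩⟩

theorem conj_mem_st (h1 : h ∈ sb G A) (h2 : h ∈ sb G B) (hg : g ∈ st G A B) :
    h * g * h⁻¹ ∈ st G A B := by
  refine ⟨fun x => ?_, fun x hx => ?_, fun x hx => ?_⟩
  · simpa [mul_smul, smul_sub] using sb_mem h2 (hg.1 (h⁻¹ • x))
  · simpa [mul_smul, smul_sub] using sb_mem h1 (hg.2.1 (h⁻¹ • x) (sb_mem (inv_mem h2) hx))
  · rw [mul_smul, mul_smul, hg.2.2 _ (sb_mem (inv_mem h1) hx), smul_inv_smul]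

theorem pow_smul_of_fix {x : M} (e : g • (g • x - x) = g • x - x) (k : ℕ) :
    g ^ k • x = x + k • (g • x - x) := by
  induction k with
  | zero => simp
  | succ k ih => rw [pow_succ', mul_smul, ih, smul_add, smul_comm, e, succ_nsmul]; abel

variable [FaithfulSMul G M]

theorem pg_st (hM : ∃ n, ∀ x : M, p ^ n • x = 0) : IsPGroup p (st G A B) := by
  obtain ⟨n, hn⟩ := hM
  rintro ⟨g, hg⟩
  refine ⟨n + n, Subtype.ext (eq_of_smul_eq_smul fun x : M => ?_)⟩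
  have h1 : ∀ y ∈ B, g ^ p ^ n • y = y := fun y hy => by
    rw [pow_smul_of_fix (hg.2.2 _ (hg.2.1 y hy)), hn, add_zero]
  show g ^ p ^ (n + n) • x = (1 : G) • x
  rw [pow_add, pow_mul, pow_smul_of_fix (h1 _ ((pow_mem hg _).1 x)), hn, add_zero, one_smul]

variable [Finite G] (hM : ∃ n, ∀ x : M, p ^ n • x = 0) (hU : SylowIn p U H)
include hM hU

omit [Finite G] in
theorem mem_of_st (hle : U ≤ st G A B) (hg : g ∈ H) (e : g ∈ st G A B) : g ∈ U :=
  (hU.eq_of_le ((pg_st hM (A := A) (B := B)).to_inf_left (K := H)) (le_inf hle hU.le)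
    inf_le_right).le ⟨e, hg⟩

omit [Finite G] in
theorem conj_mem_U (hle : U ≤ st G A B) (hh : h ∈ H) (h1 : h ∈ sb G A) (h2 : h ∈ sb G B)
    (hg : g ∈ U) : h * g * h⁻¹ ∈ U :=
  mem_of_st hM hU hle (mul_mem (mul_mem hh (hU.le hg)) (inv_mem hh)) (conj_mem_st h1 h2 (hle hg))

theorem mem_of_pow (hle : U ≤ st G A B) (hh : h ∈ H) (h1 : h ∈ sb G A) (h2 : h ∈ sb G B) {k : ℕ}
    (e : h ^ p ^ k = 1) : h ∈ U :=
  hU.le_of_normalizes (H68.isPGroup_zpowers e) (zpowers_le.2 hh) (zpowers_le.2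
    (H90.mem_normalizer_of_conj_mem fun _ => conj_mem_U hM hU hle hh h1 h2)) (mem_zpowers h)

theorem conj_mem_of_sb (hle : U ≤ st G A B) (hh : h ∈ H) (hg : g ∈ U) (h1 : h⁻¹ * g * h ∈ sb G A)
    (h2 : h⁻¹ * g * h ∈ sb G B) : h⁻¹ * g * h ∈ U := by
  obtain ⟨k, hk⟩ := hU.isPGroup ⟨g, hg⟩
  refine mem_of_pow hM hU hle (mul_mem (mul_mem (inv_mem hh) (hU.le hg)) hh) h1 h2 (k := k) ?_
  have : g ^ p ^ k = 1 := congrArg Subtype.val hk
  nth_rewrite 2 [← inv_inv h]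
  rw [conj_pow, this, mul_one, mul_inv_cancel]

omit [FaithfulSMul G M] [Finite G] hM hU in
theorem card_lt [Finite M] (h1 : A ≤ B) {x : M} (hx : x ∈ B) (hx' : x ∉ A) :
    Nat.card A < Nat.card B :=
  Set.ncard_lt_ncard (s := (A : Set M)) (t := B) ⟨h1, fun e => hx' (e hx)⟩

omit [FaithfulSMul G M] [Finite G] hM hU in
theorem card_le [Finite M] (h1 : A ≤ B) : Nat.card A ≤ Nat.card B :=
  Nat.card_le_card_of_injective _ (AddSubgroup.inclusion_injective h1)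

/-- The conjugates of the axis `Y / R` of a large group of shears intersect trivially. -/
theorem ti [Finite M] (hle : U ≤ st G R Y) (hRY : R ≤ Y) (hR : H ≤ sb G R)
    (surj : ∀ x ∉ Y, ∀ y ∈ Y, ∃ u ∈ U, u • x - x - y ∈ R) (hh : h ∈ H) (hn : h ∉ sb G Y) :
    dd h Y ≤ R := by
  intro x₀ hx₀
  by_contra hx₀'
  obtain ⟨σ, ⟨hσ, hn, d, hd, hd'⟩, hmax⟩ := H90.exists_max_of_bdd
    (s := fun σ => σ ∈ H ∧ σ ∉ sb G Y ∧ ∃ d ∈ dd σ Y, d ∉ R) (f := fun σ => Nat.card (dd σ Y))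
    (N := Nat.card Y) (fun σ _ => card_le inf_le_left) ⟨h, hh, hn, x₀, hx₀, hx₀'⟩
  obtain ⟨v, hv, hv'⟩ := exists_of_not_sb hn
  obtain ⟨s, hs, e⟩ := surj _ hv' _ hd.2
  have hρ := mul_mem (mul_mem (inv_mem hσ) (hU.le hs)) hσ
  have e1 : (σ⁻¹ * s * σ) • v - v - d ∈ R := by
    simpa [mul_smul, smul_sub] using sb_mem (hR (inv_mem hσ)) e
  have e2 : dd σ Y ≤ dd (σ⁻¹ * s * σ) Y := fun x hx => mem_dd.2 ⟨hx.1, by
    simpa [mul_smul, smul_sub] using
      add_mem (hRY (sb_mem (hR (inv_mem hσ)) ((hle hs).2.1 _ (mem_dd.1 hx).2))) hx.1⟩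
  have e3 : σ⁻¹ * s * σ ∈ sb G Y := by
    by_contra e3
    refine (hmax _ ⟨hρ, e3, d, e2 hd, hd'⟩).not_gt (card_lt e2 (mem_dd.2 ⟨hv, ?_⟩)
      fun e => hv' e.2)
    simpa using add_mem (add_mem (hRY e1) hd.1) hv
  exact hd' (by simpa using sub_mem ((hle (conj_mem_of_sb hM hU hle hσ hs (hR hρ) e3)).2.1 v hv) e1)

end H93.SX
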