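import Mathlib
import Cfsg.Agent.Base
import Cfsg.Agent.Lib.SpX.Lin

/-!
Groups acting on `K × K` whose Sylow `p`-subgroup is the group of all shears: they contain `SL₂(K)`.
-/

set_option autoImplicit false

namespace H93.SX

open Subgroup
open H68 (SylowIn)

variable {K G : Type*} [Field K] [Group G] [DistribMulAction G (K × K)] {p : ℕ}
  {H U L : Subgroup G} {u : K → G} {φ : K →+ K} {g h : G} {α β γ δ α' β' γ' δ' : K}

variable (K) in
/-- The first coordinate axis. -/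
def ax : AddSubgroup (K × K) := (AddMonoidHom.snd K K).ker

theorem mem_ax {v : K × K} : v ∈ ax K ↔ v.2 = 0 := Iff.rfl

/-- The Sylow subgroup `U` of `H` is the group of shears. -/
structure Sh (p : ℕ) (H U : Subgroup G) (u : K → G) : Prop where
  syl : SylowIn p U H
  mem : ∀ g, g ∈ U ↔ ∃ s, g = u s
  act : ∀ s x y, u s • (x, y) = (x + s * y, y)

/-- The graph of `φ` is an image of the axis. -/
def Ax (H : Subgroup G) (φ : K →+ K) : Prop :=
  ∃ h ∈ H, ∀ x : K, (h • ((x, 0) : K × K)).1 = φ (h • ((x, 0) : K × K)).2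

/-- `g` acts as a matrix in the coordinates corrected by `φ`. -/
def Lin (φ : K →+ K) (g : G) (α β γ δ : K) : Prop :=
  ∀ x y, g • (x + φ y, y) = (α * x + β * y + φ (γ * x + δ * y), γ * x + δ * y)

theorem Lin.mul (a : Lin φ g α β γ δ) (b : Lin φ h α' β' γ' δ') : Lin φ (g * h) (α * α' + β * γ')
    (α * β' + β * δ') (γ * α' + δ * γ') (γ * β' + δ * δ') := fun x y => by
  have e : γ * (α' * x + β' * y) + δ * (γ' * x + δ' * y) =
      (γ * α' + δ * γ') * x + (γ * β' + δ * δ') * y := by ring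
  rw [mul_smul, b, a, e]
  congr 2
  ring

theorem Lin.congr (a : Lin φ g α β γ δ) (h1 : α = α') (h2 : β = β') (h3 : γ = γ') (h4 : δ = δ') :
    Lin φ g α' β' γ' δ' := h1 ▸ h2 ▸ h3 ▸ h4 ▸ a

theorem Lin.det (a : Lin φ g α β γ δ) : α * δ - β * γ ≠ 0 := fun e => by
  have key : ∀ x y, α * x + β * y = 0 → γ * x + δ * y = 0 → x = 0 ∧ y = 0 := fun x y h1 h2 => by
    have := a x y
    rw [h1, h2, map_zero, add_zero, Prod.mk_zero_zero, smul_eq_zero_iff_eq, Prod.mk_eq_zero] at this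
    exact ⟨by simpa [this.2] using this.1, this.2⟩
  have h1 := key δ (-γ) (by linear_combination e) (by ring)
  have h2 := key β (-α) (by ring) (by linear_combination -e)
  exact one_ne_zero (key 1 0 (by linear_combination -h2.2) (by linear_combination -h1.2)).1

theorem Lin.apply (a : Lin φ g α β γ δ) (x y : K) : g • (x, y) =
    (α * (x - φ y) + β * y + φ (γ * (x - φ y) + δ * y), γ * (x - φ y) + δ * y) := by
  rw [← a, sub_add_cancel]

theorem Ax.mono (a : Ax H φ) (h : H ≤ L) : Ax L φ := let ⟨g, h1, h2⟩ := a; ⟨g, h h1, h2⟩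

theorem hM2 [CharP K p] : ∃ n, ∀ x : K × K, p ^ n • x = 0 := ⟨1, fun x => by ext <;> simp⟩

theorem Sh.lin_u (S : Sh p H U u) (s : K) : Lin φ (u s) 1 s 0 1 := fun x y => by
  rw [S.act]; simp [add_right_comm]

theorem Sh.le (S : Sh p H U u) : U ≤ st G ⊥ (ax K) := fun g hg => by
  obtain ⟨s, rfl⟩ := (S.mem g).1 hg
  refine ⟨fun ⟨x, y⟩ => by simp [S.act, mem_ax], fun ⟨x, y⟩ hy => ?_, fun x hx => ?_⟩
  · obtain rfl : y = 0 := hy
    simp [S.act]
  · rw [AddSubgroup.mem_bot.1 hx, smul_zero]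

theorem Sh.mem_U (S : Sh p H U u) (s : K) : u s ∈ U := (S.mem _).2 ⟨s, rfl⟩

theorem Sh.mem_H (S : Sh p H U u) (s : K) : u s ∈ H := S.syl.le (S.mem_U s)

theorem surj_of [Finite K] (hi : ∀ x : K, (h • ((x, 0) : K × K)).2 = 0 → x = 0) (y : K) :
    ∃ x : K, (h • ((x, 0) : K × K)).2 = y :=
  Finite.surjective_of_injective (f := (AddMonoidHom.snd K K).comp
    ((DistribSMul.toAddMonoidHom (K × K) h).comp (AddMonoidHom.inl K K)))
    ((injective_iff_map_eq_zero _).2 hi) y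

variable [FaithfulSMul G (K × K)] [Finite G] [Finite K] [CharP K p] (S : Sh p H U u)
include S

theorem Sh.ti (hh : h ∈ H) {x : K} (h0 : x ≠ 0) (e : (h • ((x, 0) : K × K)).2 = 0) :
    h ∈ sb G (ax K) := by
  by_contra hn
  refine h0 (congrArg Prod.fst (AddSubgroup.mem_bot.1 (SX.ti hM2 S.syl S.le bot_le
    (fun g _ => mem_sb fun x hx => by rw [AddSubgroup.mem_bot.1 hx, smul_zero]; exact zero_mem _)
    (fun ⟨x, y⟩ hy ⟨z, w⟩ hw => ⟨u (z / y), S.mem_U _, ?_⟩) hh hn (x := (x, 0)) ⟨rfl, e⟩)))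
  obtain rfl : w = 0 := hw
  have : y ≠ 0 := hy
  simp [S.act, this]

theorem Sh.exists_ax (hh : h ∈ H) (hn : h ∉ sb G (ax K)) : ∃ φ : K →+ K, Ax H φ := by
  let f := (DistribSMul.toAddMonoidHom (K × K) h).comp (AddMonoidHom.inl K K)
  have hi : ∀ x : K, (h • ((x, 0) : K × K)).2 = 0 → x = 0 := fun x e => by_contra fun h0 =>
    hn (S.ti hh h0 e)
  let i := AddEquiv.ofBijective ((AddMonoidHom.snd K K).comp f)
    ⟨(injective_iff_map_eq_zero _).2 hi, surj_of hi⟩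
  exact ⟨(AddMonoidHom.fst K K).comp (f.comp i.symm.toAddMonoidHom), h, hh, fun x =>
    congrArg (fun x : K => (h • ((x, 0) : K × K)).1) (i.symm_apply_apply x).symm⟩

omit S [FaithfulSMul G (K × K)] [Finite G] [CharP K p] in
theorem Ax.onto (a : Ax H φ) : ∃ h ∈ H, (∀ x : K, ∃ y, h • ((x, 0) : K × K) = (φ y, y)) ∧
    ∀ y, ∃ x : K, h • ((x, 0) : K × K) = (φ y, y) := by
  obtain ⟨h, hh, e⟩ := a
  refine ⟨h, hh, fun x => ⟨_, Prod.ext (e x) rfl⟩, fun y => ?_⟩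
  obtain ⟨x, rfl⟩ := surj_of (h := h) (fun x hx => by
    have : h • ((x, 0) : K × K) = 0 := Prod.ext (by rw [e, hx, map_zero]; rfl) hx
    exact congrArg Prod.fst ((smul_eq_zero_iff_eq h).1 this)) y
  exact ⟨x, Prod.ext (e x) rfl⟩

theorem Sh.exists_v (a : Ax H φ) (hL : ∀ h ∈ H, ∀ s, h * u s * h⁻¹ ∈ L) (r : K) :
    ∃ v ∈ L ⊓ H, Lin φ v 1 0 r 1 := by
  by_cases hr : r = 0
  · exact ⟨1, one_mem _, fun x y => by simp [hr]⟩
  obtain ⟨h, hh, h1, h2⟩ := a.onto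
  obtain ⟨x₀, e₀⟩ := h2 r
  obtain ⟨m, n, hm⟩ : ∃ m n : K, h • (m, n) = ((1, 0) : K × K) := ⟨_, _, smul_inv_smul h _⟩
  have hn : n ≠ 0 := by
    rintro rfl
    obtain ⟨y, hy⟩ := h1 m
    rw [hm, Prod.mk.injEq] at hy
    exact one_ne_zero (by rw [hy.1, ← hy.2, map_zero])
  have hv := mul_mem (mul_mem hh (S.mem_H (x₀ / n))) (inv_mem hh)
  have e1 : ∀ y, (h * u (x₀ / n) * h⁻¹) • (φ y, y) = (φ y, y) := fun y => by
    obtain ⟨x, e⟩ := h2 y
    simp [← e, mul_smul, S.act]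
  have e2 : (h * u (x₀ / n) * h⁻¹) • ((1, 0) : K × K) = (1 + φ r, r) := by
    rw [← hm, mul_smul, inv_smul_smul, mul_smul, S.act, div_mul_cancel₀ _ hn,
      show ((m + x₀, n) : K × K) = (m, n) + (x₀, 0) by simp, smul_add, hm, e₀]
    simp
  refine ⟨_, ⟨hL h hh _, hv⟩, fun x y => ?_⟩
  have e5 : ∃ z, (h * u (x₀ / n) * h⁻¹) • ((x, 0) : K × K) = (x + φ z, z) := by
    obtain ⟨m', n', hm'⟩ : ∃ m' n' : K, h • (m', n') = ((x, 0) : K × K) := ⟨_, _, smul_inv_smul h _⟩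
    obtain ⟨z, hz⟩ := h1 (x₀ / n * n')
    refine ⟨z, ?_⟩
    rw [← hm', mul_smul, inv_smul_smul, mul_smul, S.act, show ((m' + x₀ / n * n', n') : K × K) =
      (m', n') + (x₀ / n * n', 0) by simp, smul_add, hm', hz]
    simp
  generalize h * u (x₀ / n) * h⁻¹ = v at *
  have e3 := S.ti (mul_mem (inv_mem hv) (mul_mem (S.mem_H r⁻¹) hh)) (x := x₀) (by
    rintro rfl
    rw [Prod.mk_zero_zero, smul_zero] at e₀
    exact hr (congrArg Prod.snd e₀).symm) (by
    rw [mul_smul, mul_smul, e₀, S.act, inv_mul_cancel₀ hr, add_comm, ← e2, inv_smul_smul])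
  obtain ⟨x', z, e4⟩ : ∃ x' z : K, (v⁻¹ * (u r⁻¹ * h)) • (x', z) = ((x, 0) : K × K) :=
    ⟨_, _, smul_inv_smul _ _⟩
  obtain rfl : z = 0 := (sb_iff e3 (x := (x', z))).1 (by rw [e4]; rfl)
  obtain ⟨w, hw⟩ := h1 x'
  obtain ⟨z, hz⟩ := e5
  rw [mul_smul, inv_smul_eq_iff, mul_smul, hw, S.act, hz, Prod.mk.injEq] at e4
  obtain ⟨e4, rfl⟩ := e4
  obtain rfl : w = r * x := by field_simp at e4; linear_combination e4
  rw [show ((x + φ y, y) : K × K) = (x, 0) + (φ y, y) by simp, smul_add, hz, e1]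
  simp [add_assoc]

/-- The conjugates of the shears generate `SL₂(K)`. -/
theorem Sh.sl2 (a : Ax H φ) (hL : ∀ h ∈ H, ∀ s, h * u s * h⁻¹ ∈ L) (e : α * δ - β * γ = 1) :
    ∃ g ∈ L ⊓ H, Lin φ g α β γ δ := by
  have hu : ∀ s, u s ∈ L ⊓ H := fun s => ⟨by simpa using hL 1 (one_mem _) s, S.mem_H s⟩
  have key : ∀ α β γ δ : K, γ ≠ 0 → α * δ - β * γ = 1 → ∃ g ∈ L ⊓ H, Lin φ g α β γ δ := by
    intro α β γ δ h0 e
    obtain ⟨v, hv, l⟩ := S.exists_v a hL γ
    refine ⟨_, mul_mem (mul_mem (hu ((α - 1) / γ)) hv) (hu ((δ - 1) / γ)),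
      (((S.lin_u _).mul l).mul (S.lin_u _)).congr ?_ ?_ (by ring) ?_⟩ <;> field_simp
    · ring
    · linear_combination e
    · ring
  by_cases h0 : γ = 0
  · obtain ⟨v, hv, l⟩ := S.exists_v a hL (-1)
    obtain ⟨g, hg, l'⟩ := key α β α (β + δ) (by rintro rfl; simp [h0] at e)
      (by rw [h0] at e; linear_combination e)
    exact ⟨_, mul_mem hv hg, (l.mul l').congr (by ring) (by ring) (by rw [h0]; ring) (by ring)⟩
  · exact key α β γ δ h0 e

omit [CharP K p] S in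
theorem Sh.lin_sb [CharP K 2] (S : Sh 2 H U u) (hK : ∀ x : K, x ^ 4 = x) (a : Ax H φ) (hh : h ∈ H)
    (hs : h ∈ sb G (ax K)) : ∃ α β γ δ, Lin φ h α β γ δ := by
  have h2 : (2 : K) = 0 := CharP.cast_eq_zero K 2
  obtain ⟨n, ⟨-, hn⟩, l⟩ := S.sl2 (L := ⊤) a (fun _ _ _ => mem_top _) (α := 0) (β := 1) (γ := 1)
    (δ := 0) (by linear_combination -h2)
  have l1 : ∀ y : K, n • ((y, 0) : K × K) = (φ y, y) := fun y => by simpa using l y 0
  obtain ⟨x₁, y₁, e₁⟩ : ∃ x y, h • ((φ 1, 1) : K × K) = (x + φ y, y) :=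
    ⟨_, _, Prod.ext (sub_add_cancel _ _).symm rfl⟩
  have hy : y₁ ≠ 0 := fun e => one_ne_zero ((sb_iff hs (x := (φ 1, 1))).1 (by rw [e₁]; exact e))
  suffices ∃ α β γ δ, Lin φ (u (-x₁ / y₁) * h) α β γ δ by
    obtain ⟨α, β, γ, δ, l⟩ := this
    have := (S.lin_u (φ := φ) (x₁ / y₁)).mul l
    rw [← mul_assoc, show u (x₁ / y₁) * u (-x₁ / y₁) = 1 from eq_of_smul_eq_smul fun (⟨x, y⟩ : K × K) => by
      rw [mul_smul, S.act, S.act, one_smul]; congr 1; ring, one_mul] at this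
    exact ⟨_, _, _, _, this⟩
  have hh' := mul_mem (S.mem_H (-x₁ / y₁)) hh
  have hs' := mul_mem (st_le_sb bot_le (S.le (S.mem_U (-x₁ / y₁)))).2 hs
  have e₂ : (u (-x₁ / y₁) * h) • ((φ 1, 1) : K × K) = (φ y₁, y₁) := by
    rw [mul_smul, e₁, S.act, div_mul_cancel₀ _ hy]; congr 1; ring
  generalize u (-x₁ / y₁) * h = g at *
  have e₃ := S.ti (H.mul_mem (H.inv_mem hn) (H.mul_mem hh' hn)) one_ne_zero (by
    rw [mul_smul, mul_smul, l1, e₂, ← l1, inv_smul_smul])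
  let β := (AddMonoidHom.fst K K).comp
    ((DistribSMul.toAddMonoidHom (K × K) g).comp (AddMonoidHom.inl K K))
  have hβ : ∀ x : K, g • ((x, 0) : K × K) = (β x, 0) := fun x => Prod.ext rfl (sb_mem hs' rfl)
  have hγ : ∀ y : K, ∃ z, g • ((φ y, y) : K × K) = (φ z, z) := fun y => by
    obtain ⟨z, w, e⟩ : ∃ z w : K, (n⁻¹ * (g * n)) • ((y, 0) : K × K) = (z, w) := ⟨_, _, rfl⟩
    obtain rfl : w = 0 := by simpa [e, mem_ax] using sb_mem e₃ (x := (y, 0)) rfl
    exact ⟨z, by rwa [mul_smul, inv_smul_eq_iff, mul_smul, l1, l1] at e⟩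
  choose γ hγ using hγ
  have act : ∀ x y, g • (x + φ y, y) = (β x + φ (γ y), γ y) := fun x y => by
    rw [show ((x + φ y, y) : K × K) = (x, 0) + (φ y, y) by simp, smul_add, hβ, hγ]
    simp
  have hθ : ∀ s, ∃ t, ∀ y, β (s * y) = t * γ y := fun s => by
    obtain ⟨t, ht⟩ := (S.mem _).1 (conj_mem_U hM2 S.syl S.le hh' (mem_sb fun x hx => by
      rw [AddSubgroup.mem_bot.1 hx, smul_zero]; exact zero_mem _) hs' (S.mem_U s))
    refine ⟨t, fun y => ?_⟩
    have := congrArg (fun k : G => (k • g • ((φ y, y) : K × K)).1) ht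
    simp only [mul_smul, inv_smul_smul] at this
    rw [S.act, add_comm, act, hγ, S.act] at this
    linear_combination this
  choose θ hθ using hθ
  have hc : β 1 ≠ 0 := fun e => by
    have := hβ 1
    rw [e, Prod.mk_zero_zero, smul_eq_zero_iff_eq] at this
    exact one_ne_zero (congrArg Prod.fst this)
  have h1 : β 1 = θ 1 * γ 1 := by rw [← hθ, one_mul]
  have hγ' : ∀ y, γ y * β 1 = β y * γ 1 := fun y => by
    rw [h1, ← one_mul y, hθ, one_mul]; ring
  have hm : ∀ s y, β (s * y) * β 1 = β s * β y := fun s y => by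
    have := hθ s 1
    rw [mul_one] at this
    rw [hθ, this]; linear_combination θ s * hγ' y
  by_cases hl : ∀ x, β x = β 1 * x
  · refine ⟨β 1, 0, 0, γ 1, fun x y => ?_⟩
    have : γ y = γ 1 * y := mul_right_cancel₀ hc (by rw [hγ', hl]; ring)
    rw [act, this, hl]; simp
  obtain ⟨w, hw⟩ := not_forall.1 hl
  have w0 : w ≠ 0 := by rintro rfl; simp at hw
  have w1 : w + 1 ≠ 0 := fun e => hw (by
    rw [show w = 1 by linear_combination e - h2, mul_one])
  have w2 : w * w = w + 1 := by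
    have : w * (w + 1) * (w * w - (w + 1)) = 0 := by linear_combination hK w - (w ^ 2) * h2
    linear_combination (mul_eq_zero.1 this).resolve_left (mul_ne_zero w0 w1)
  have w3 : β w = β 1 * (w + 1) := by
    have := hm w w
    rw [w2, map_add] at this
    have e : (β w - β 1 * w) * (β w - β 1 * (w + 1)) = 0 := by
      linear_combination -this + (β 1) ^ 2 * w2 + (β 1 ^ 2 * (w + 1) - β w * β 1 * w) * h2
    linear_combination (mul_eq_zero.1 e).resolve_left (sub_ne_zero.2 hw)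
  have hs : ∀ x, β x = β 1 * x ^ 2 := fun x => by
    have : x * (x - 1) * (x - w) * (x - (w + 1)) = 0 := by
      linear_combination hK x + (x ^ 2 - x) * w2 + ((x ^ 2 - x ^ 3) * (w + 1) + w * x ^ 2 - w * x) * h2
    simp only [mul_eq_zero, sub_eq_zero] at this
    rcases this with ((rfl | rfl) | rfl) | rfl
    · simp
    · simp
    · rw [w3, sq, w2]
    · rw [map_add, w3]; linear_combination (-β 1) * w2 - β 1 * w * h2
  have c3 : ∀ x : K, x ≠ 0 → x ^ 3 = 1 := fun x hx => mul_left_cancel₀ hx (by linear_combination hK x)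
  have hs' : ∀ y, γ y = γ 1 * y ^ 2 := fun y => mul_right_cancel₀ hc (by rw [hγ', hs y]; ring)
  have hg : g ∈ U := mem_of_pow hM2 S.syl S.le hh' (mem_sb fun x hx => by
      rw [AddSubgroup.mem_bot.1 hx, smul_zero]; exact zero_mem _) ‹_› (k := 1)
    (eq_of_smul_eq_smul fun (⟨x, y⟩ : K × K) => by
      have e1 : γ (γ y) = y := by
        rw [hs' (γ y), hs' y]
        linear_combination y ^ 4 * c3 (γ 1) (right_ne_zero_of_mul (h1 ▸ hc)) + hK y
      have e2 : β (β (x - φ y)) = x - φ y := by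
        rw [hs (β _), hs (x - φ y)]
        linear_combination (x - φ y) ^ 4 * c3 _ hc + hK (x - φ y)
      rw [pow_one, sq, mul_smul, one_smul, ← sub_add_cancel x (φ y), act, act, e1, e2])
  obtain ⟨s, rfl⟩ := (S.mem _).1 hg
  have e : ∀ x, β x = x := fun x => by simpa [S.act] using (hβ x).symm
  exact (hw (by rw [e, e, one_mul])).elim

omit [CharP K p] S in
/-- Over the fields with two and four elements the whole group is linear. -/
theorem Sh.lin [CharP K 2] (S : Sh 2 H U u) (hK : ∀ x : K, x ^ 4 = x) (a : Ax H φ) (hh : h ∈ H) :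
    ∃ α β γ δ, Lin φ h α β γ δ := by
  by_cases hs : h ∈ sb G (ax K)
  · exact S.lin_sb hK a hh hs
  have h2 : (2 : K) = 0 := CharP.cast_eq_zero K 2
  obtain ⟨x, y, e⟩ : ∃ x y, h • ((1, 0) : K × K) = (x + φ y, y) :=
    ⟨_, _, Prod.ext (sub_add_cancel _ _).symm rfl⟩
  have hy : y ≠ 0 := fun e' => hs (S.ti hh one_ne_zero (by rw [e]; exact e'))
  obtain ⟨n, ⟨-, hn⟩, l⟩ := S.sl2 (L := ⊤) a (fun _ _ _ => mem_top _) (α := x / y) (β := 1) (γ := 1)
    (δ := 0) (by linear_combination -h2)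
  have hh' := H.mul_mem (H.inv_mem hn) hh
  obtain ⟨α, β, γ, δ, l'⟩ := S.lin_sb hK a hh' (S.ti hh' one_ne_zero (by
    rw [mul_smul, e, show ((x + φ y, y) : K × K) = n • (y, 0) by simpa [hy] using (l y 0).symm,
      inv_smul_smul]))
  exact ⟨_, _, _, _, by simpa using l.mul l'⟩

theorem sxsl2_eq_defs : True := by
  have := @st.eq_1.{0, 0}
  have := @sb.eq_1.{0, 0}
  have := @dd.eq_1.{0, 0}
  have := @ax.eq_1.{0}
  have := @Ax.eq_1.{0, 0}
  have := @Lin.eq_1.{0, 0}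
  trivial

end H93.SX
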