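import Mathlib
import Cfsg.Agent.Base
import Cfsg.Agent.Lib.SpX.Sl2

/-!
Groups acting on `K × K × K` whose Sylow `p`-subgroup acts as the unipotent group of `SO₃(K)`.
-/

set_option autoImplicit false

namespace H93.SX

open Subgroup
open H68 (SylowIn)

section Gen

variable {G M : Type*} [Group G] [AddCommGroup M] [DistribMulAction G M] {P : Subgroup G}
  {g : G} {v : M}

/-- The fixed points of `g`. -/
def fp (M : Type*) [AddCommGroup M] [DistribMulAction G M] (g : G) : AddSubgroup M where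
  carrier := {v | g • v = v}
  zero_mem' := smul_zero g
  add_mem' := fun {a b} ha hb => show g • (a + b) = a + b by rw [smul_add, ha, hb]
  neg_mem' := fun {a} ha => show g • (-a) = -a by rw [smul_neg, ha]

variable (G) in
/-- The elements that stabilise `C` and act trivially on `C / V`. -/
def tr (C V : AddSubgroup M) : Subgroup G where
  carrier := {k | k ∈ sb G C ∧ ∀ x ∈ C, k • x - x ∈ V}
  one_mem' := ⟨one_mem _, fun x _ => by simp⟩
  mul_mem' := fun {a b} ha hb => ⟨mul_mem ha.1 hb.1, fun x hx => by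
    simpa [mul_smul] using add_mem (ha.2 _ (sb_mem hb.1 hx)) (hb.2 x hx)⟩
  inv_mem' := fun {a} ha => ⟨inv_mem ha.1, fun x hx => by
    simpa using neg_mem (ha.2 _ (sb_mem (inv_mem ha.1) hx))⟩

theorem mem_tr_bot [Finite G] {D : AddSubgroup M} : g ∈ tr G D ⊥ ↔ ∀ x ∈ D, g • x = x :=
  ⟨fun h x hx => sub_eq_zero.1 (h.2 x hx), fun h =>
    ⟨mem_sb fun x hx => by rwa [h x hx], fun x hx => sub_eq_zero.2 (h x hx)⟩⟩

variable [Finite G]

/-- The norm map of `P`. -/
noncomputable def nm (P : Subgroup G) : M →+ M :=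
  have := Fintype.ofFinite P
  ∑ x : P, DistribSMul.toAddMonoidHom M (x : G)

theorem nm_apply [Fintype P] : nm P v = ∑ x : P, (x : G) • v := by
  unfold nm
  simp only [AddMonoidHom.finsetSum_apply]
  convert rfl
  rfl

theorem nm_fix (hg : g ∈ P) : g • nm P v = nm P v := by
  have := Fintype.ofFinite P
  rw [nm_apply, Finset.smul_sum]
  exact Fintype.sum_equiv (Equiv.mulLeft ⟨g, hg⟩) _ _ fun x => (mul_smul _ _ _).symm

theorem nm_smul (hg : g ∈ P) : nm P (g • v) = nm P v := by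
  have := Fintype.ofFinite P
  rw [nm_apply, nm_apply]
  exact Fintype.sum_equiv (Equiv.mulRight ⟨g, hg⟩) _ _ fun x => (mul_smul _ _ _).symm

theorem nm_conj (hg : ∀ x ∈ P, g * x * g⁻¹ ∈ P) : g • nm P v = nm P (g • v) := by
  have := Fintype.ofFinite P
  rw [nm_apply, nm_apply, Finset.smul_sum]
  exact Fintype.sum_equiv (P.normalizerMonoidHom ⟨g, H90.mem_normalizer_of_conj_mem hg⟩).toEquiv _ _
    fun x => by
      show g • (x : G) • v = (g * x * g⁻¹) • g • v
      simp [mul_smul]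

theorem nm_sub {V : AddSubgroup M} (h : ∀ x ∈ P, x • v - v ∈ V) : nm P v - Nat.card P • v ∈ V := by
  have := Fintype.ofFinite P
  rw [nm_apply, Nat.card_eq_fintype_card, ← Finset.card_univ, ← Finset.sum_const,
    ← Finset.sum_sub_distrib]
  exact sum_mem fun x _ => h x x.2

theorem nm_of_fix (h : ∀ x ∈ P, x • v = v) : nm P v = Nat.card P • v :=
  sub_eq_zero.1 (nm_sub (V := ⊥) fun x hx => sub_eq_zero.2 (h x hx))

omit [Finite G] in
theorem mem_of_nsmul {V : AddSubgroup M} {n p : ℕ} (hp : p.Prime) (h : ¬ p ∣ n) (h1 : p • v = 0)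
    (h2 : n • v ∈ V) : v ∈ V := by
  obtain ⟨a, b, e⟩ := Nat.isCoprime_iff_coprime.2 ((Nat.Prime.coprime_iff_not_dvd hp).2 h)
  have : v = b • n • v := by
    conv_lhs => rw [← one_zsmul v, ← e, add_smul, mul_smul, mul_smul, natCast_zsmul, natCast_zsmul,
      h1, smul_zero, zero_add]
  exact this ▸ V.zsmul_mem h2 b

end Gen

variable {K G : Type*} [Field K] [Group G] [DistribMulAction G (K × K × K)] {p : ℕ}
  {H U : Subgroup G} {u : K → G} {g h k z σ τ : G} {l m : K} {v : K × K × K}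

variable (K) in
/-- The first coordinate line. -/
def z1 : AddSubgroup (K × K × K) := (AddMonoidHom.snd K (K × K)).ker

variable (K) in
/-- The plane of the first two coordinates. -/
def z2 : AddSubgroup (K × K × K) := ((AddMonoidHom.snd K K).comp (AddMonoidHom.snd K (K × K))).ker

theorem mem_z1 : v ∈ z1 K ↔ v.2.1 = 0 ∧ v.2.2 = 0 := Prod.ext_iff

theorem mem_z2 : v ∈ z2 K ↔ v.2.2 = 0 := Iff.rfl

theorem z1_le : z1 K ≤ z2 K := fun _ h => (mem_z1.1 h).2

theorem hM3 [CharP K p] : ∃ n, ∀ x : K × K × K, p ^ n • x = 0 := ⟨1, fun x => by ext <;> simp⟩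

/-- The Sylow subgroup `U` of `H` acts cubically. -/
structure Cu (p : ℕ) (H U : Subgroup G) (u : K → G) : Prop where
  syl : SylowIn p U H
  mem : ∀ g, g ∈ U ↔ ∃ s, g = u s
  act : ∀ t v, u t • v = (v.1 + 2 * t * v.2.1 + t ^ 2 * v.2.2, v.2.1 + t * v.2.2, v.2.2)

/-- `g` acts on the three layers as `1`, `l` and `l ^ 2`. -/
structure Gr (g : G) (l : K) : Prop where
  one : ∀ v ∈ z1 K, g • v = v
  two : ∀ v ∈ z2 K, (g • v).2.1 = l * v.2.1
  top : ∀ v : K × K × K, (g • v).2.2 = l ^ 2 * v.2.2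

theorem Gr.mem (a : Gr g l) (h : v ∈ z2 K) : g • v ∈ z2 K := by
  rw [mem_z2, a.top, mem_z2.1 h, mul_zero]

theorem Gr.mul (a : Gr g l) (b : Gr h m) : Gr (g * h) (l * m) :=
  ⟨fun v hv => by rw [mul_smul, b.one v hv, a.one v hv],
    fun v hv => by rw [mul_smul, a.two _ (b.mem hv), b.two v hv, mul_assoc],
    fun v => by rw [mul_smul, a.top, b.top]; ring⟩

theorem Gr.pow (a : Gr g l) (i : ℕ) : Gr (g ^ i) (l ^ i) := by
  induction i with
  | zero => exact ⟨by simp, by simp, by simp⟩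
  | succ i ih => rw [pow_succ, pow_succ]; exact ih.mul a

theorem Gr.sb1 [Finite G] (a : Gr g l) : g ∈ sb G (z1 K) := mem_sb fun v hv => by rwa [a.one v hv]

theorem Gr.sb2 [Finite G] (a : Gr g l) : g ∈ sb G (z2 K) := mem_sb fun _ => a.mem

theorem Gr.st (a : Gr g (1 : K)) : g ∈ st G (z1 K) (z2 K) :=
  ⟨fun v => by simp [mem_z2, a.top], fun v hv => by simp [mem_z1, a.top, a.two v hv], a.one⟩

theorem Gr.fix (a : Gr g l) (h : l ^ 2 ≠ 1) (e : g • v = v) : v ∈ z1 K := by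
  have h1 : v ∈ z2 K := by
    have := a.top v
    rw [e] at this
    exact (mul_left_eq_self₀.1 this.symm).resolve_left h
  have := a.two v h1
  rw [e] at this
  exact mem_z1.2 ⟨(mul_left_eq_self₀.1 this.symm).resolve_left (by rintro rfl; simp at h), h1⟩

namespace Cu

variable (S : Cu p H U u)
include S

theorem mem_U (s : K) : u s ∈ U := (S.mem _).2 ⟨s, rfl⟩

theorem mem_H (s : K) : u s ∈ H := S.syl.le (S.mem_U s)

theorem gr (s : K) : Gr (u s) (1 : K) :=
  ⟨fun ⟨a, b, c⟩ hv => by simp [S.act, show b = 0 from (mem_z1.1 hv).1, show c = 0 from (mem_z1.1 hv).2],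
    fun v hv => by simp [S.act, mem_z2.1 hv], fun v => by simp [S.act]⟩

theorem le : U ≤ st G (z1 K) (z2 K) := fun g hg => by
  obtain ⟨s, rfl⟩ := (S.mem g).1 hg
  exact (S.gr s).st

theorem fix (h2 : (2 : K) ≠ 0) {t : K} (ht : t ≠ 0) (e : u t • v = v) : v ∈ z1 K := by
  rw [S.act] at e
  have h1 : v.2.2 = 0 := by simpa [ht] using congrArg (·.2.1) e
  exact mem_z1.2 ⟨by simpa [ht, h1, h2] using congrArg (·.1) e, h1⟩

variable [FaithfulSMul G (K × K × K)]

theorem u_mul (s t : K) : u s * u t = u (s + t) := eq_of_smul_eq_smul fun v : K × K × K => by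
  rw [mul_smul, S.act, S.act, S.act]; ext <;> ring

theorem u_zero : u 0 = 1 := eq_of_smul_eq_smul fun v : K × K × K => by simp [S.act]

theorem u_inv (s : K) : (u s)⁻¹ = u (-s) := by
  rw [inv_eq_iff_mul_eq_one, S.u_mul, add_neg_cancel, S.u_zero]

theorem u_pow (s : K) (n : ℕ) : u s ^ n = u (n * s) := by
  induction n with
  | zero => simp [S.u_zero]
  | succ n ih => rw [pow_succ, ih, S.u_mul]; congr 1; push_cast; ring

variable [Finite G] [Finite K] [CharP K p] (h2 : (2 : K) ≠ 0)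

theorem mem_of_gr (hg : g ∈ H) (a : Gr g (1 : K)) : g ∈ U := mem_of_st hM3 S.syl S.le hg a.st

include h2

theorem gr_of (hg : g ∈ H) (h1 : g ∈ sb G (z2 K)) (h0 : ∀ v ∈ z1 K, g • v = v) :
    ∃ l : K, Gr g l ∧ ∀ t, g * u (l * t) * g⁻¹ = u t := by
  have hθ : ∀ t, ∃ s, ∀ v : K × K × K, g • u t • v = u s • g • v := fun t => by
    obtain ⟨s, hs⟩ := (S.mem _).1 (conj_mem_U hM3 S.syl S.le hg
      (mem_sb fun v hv => by rwa [h0 v hv]) h1 (S.mem_U t))
    exact ⟨s, fun v => by rw [← hs]; simp [mul_smul]⟩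
  choose θ hθ using hθ
  have e1 : ∀ t, ∀ v ∈ z2 K, θ t * (g • v).2.1 = t * v.2.1 := fun t v hv => by
    have := congrArg (·.1) (hθ t v)
    rw [show u t • v = v + (2 * t * v.2.1, 0, 0) by simp [S.act, mem_z2.1 hv, Prod.ext_iff], smul_add,
      h0 (_, 0, 0) (by simp [mem_z1]), S.act, mem_z2.1 (sb_mem h1 hv)] at this
    exact mul_left_cancel₀ h2 (by simp at this; linear_combination -this)
  have h3 : θ 1 ≠ 0 := fun e => by simpa [e] using e1 1 (0, 1, 0) rfl
  have e2 : ∀ v ∈ z2 K, (g • v).2.1 = (θ 1)⁻¹ * v.2.1 := fun v hv => by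
    field_simp; linear_combination e1 1 v hv
  refine ⟨(θ 1)⁻¹, ⟨h0, e2, fun v => ?_⟩, fun t => eq_of_smul_eq_smul fun v : K × K × K => ?_⟩
  · have := congrArg (·.2.1) (hθ 1 v)
    rw [show u 1 • v = v + (2 * v.2.1 + v.2.2, v.2.2, 0) by simp [S.act, add_assoc, Prod.ext_iff],
      smul_add, S.act] at this
    simp only [Prod.snd_add, Prod.fst_add, e2 (2 * v.2.1 + v.2.2, v.2.2, 0) rfl] at this
    field_simp at this ⊢
    linear_combination -this
  · have := e1 ((θ 1)⁻¹ * t) (0, 1, 0) rfl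
    rw [e2 _ rfl, mul_one, mul_one, mul_comm] at this
    rw [mul_smul, mul_smul, hθ, smul_inv_smul, mul_left_cancel₀ (inv_ne_zero h3) this]

theorem not_conj (hz : z ∈ H) (a : Gr z (-1 : K)) (hk : k ∈ H) : k * z * k⁻¹ ∉ U := fun e => by
  obtain ⟨s, hs⟩ := (S.mem _).1 (conj_mem_of_sb hM3 S.syl S.le hk e
    (by simpa [mul_assoc] using a.sb1) (by simpa [mul_assoc] using a.sb2))
  have := a.two (0, 1, 0) rfl
  rw [show z = u s by simpa [mul_assoc] using hs, (S.gr s).two _ rfl] at this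
  exact h2 (by linear_combination this)

theorem sb_of_sb (hz : z ∈ H) (a : Gr z (-1 : K)) (hh : h ∈ H) (h1 : h ∈ sb G (z1 K)) :
    h ∈ sb G (z2 K) := by
  have ti : ∀ k ∈ H, k ∈ sb G (z1 K) → (k • ((0, 1, 0) : K × K × K)).2.2 = 0 → k ∈ sb G (z2 K) :=
    fun k hk e1 e2 => by_contra fun hn => one_ne_zero (mem_z1.1 (ti hM3 (S.syl.mono
      (le_inf S.syl.le (S.le.trans ((st_le_sb z1_le).trans inf_le_left))) inf_le_left) S.le z1_le
      inf_le_right (fun x hx y hy => ⟨u (y.2.1 / x.2.2), S.mem_U _, by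
        simp [S.act, mem_z1, mem_z2.1 hy, show x.2.2 ≠ 0 from hx]⟩) ⟨hk, e1⟩ hn
      (x := (0, 1, 0)) ⟨rfl, e2⟩)).1
  by_contra hn
  have h3 := mt (ti h hh h1) hn
  obtain ⟨e, he⟩ : ∃ e, h • ((0, 1, 0) : K × K × K) = e := ⟨_, rfl⟩
  rw [he] at h3
  have b := (S.gr ((e.2.1 - (z • e).2.1) / e.2.2)).mul a
  have hz' := mul_mem (S.mem_H ((e.2.1 - (z • e).2.1) / e.2.2)) hz
  have e1 : (u ((e.2.1 - (z • e).2.1) / e.2.2) * z) • e - e ∈ z1 K := by
    simp [mul_smul, S.act, mem_z1, a.top, h3]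
  generalize u ((e.2.1 - (z • e).2.1) / e.2.2) * z = y at *
  rw [one_mul] at b
  have e2 := mem_z1.1 (sb_mem (inv_mem h1) e1)
  rw [← he, smul_sub, inv_smul_smul, ← mul_smul, ← mul_smul] at e2
  have hy := mul_mem (mul_mem (inv_mem hh) hz') hh
  obtain ⟨l, c, -⟩ := S.gr_of h2 hy (ti _ hy (mul_mem (mul_mem (inv_mem h1) b.sb1) h1)
    (by simpa using e2.2)) fun v hv => by
      rw [mul_smul, mul_smul, b.one _ (sb_mem h1 hv), inv_smul_smul]
  obtain rfl : l = 1 := by simpa [c.two (0, 1, 0) rfl, sub_eq_zero] using e2.1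
  exact S.not_conj h2 hz' b (inv_mem hh) (by simpa using S.mem_of_gr hy c)

theorem gr_conj (hz : z ∈ H) (a : Gr z (-1 : K)) (z2 : z * z = 1) (hk : k ∈ H)
    (h0 : ∀ v ∈ z1 K, (k * z * k⁻¹) • v = v) :
    Gr (k * z * k⁻¹) (-1 : K) ∧ ∀ t, k * z * k⁻¹ * u t * (k * z * k⁻¹)⁻¹ = u (-t) := by
  have hy := mul_mem (mul_mem hk hz) (inv_mem hk)
  obtain ⟨l, c, e⟩ := S.gr_of h2 hy (S.sb_of_sb h2 hz a hy (mem_sb fun v hv => by rwa [h0 v hv])) h0
  have := (c.mul c).two (0, 1, 0) rfl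
  rw [conj_mul, z2, mul_one, mul_inv_cancel, one_smul, mul_one, eq_comm, mul_self_eq_one_iff] at this
  rcases this with rfl | rfl
  · exact (S.not_conj h2 hz a hk (S.mem_of_gr hy c)).elim
  · exact ⟨c, fun t => by simpa using e (-t)⟩

end Cu

theorem sxcub_eq_defs : True := by
  have := @fp.eq_1.{0, 0}
  have := @tr.eq_1.{0, 0}
  have := @nm.eq_1.{0, 0}
  have := @z1.eq_1.{0}
  have := @z2.eq_1.{0}
  trivial

end H93.SX
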