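import Mathlib
import Cfsg.Agent.Base
import Cfsg.Agent.Lib.SpX.Cub

/-!
A group with a cubic Sylow `p`-subgroup and a full torus that fixes the bottom layer has no
nontrivial invariant subgroup in the bottom layer, unless the Sylow subgroup is normal.
-/

set_option autoImplicit false

namespace H93.SX

open Subgroup
open H68 (SylowIn)

variable {K G : Type*} [Field K] [Group G] [DistribMulAction G (K × K × K)] {p : ℕ}
  {H U : Subgroup G} {u : K → G} {g h k z σ τ : G} {l m : K} {v w : K × K × K}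

/-- A generator `h` of a torus and its involution `z`. -/
structure Tor (H : Subgroup G) (h z : G) (l : K) : Prop where
  mem : h ∈ H
  gr : Gr h l
  gen : ∀ x : K, x ≠ 0 → ∃ i : ℕ, l ^ i = x
  zm : z ∈ H
  zg : Gr z (-1 : K)
  zz : z * z = 1
  comm : Commute h z

variable (K) in
/-- `σ` moves the bottom layer, keeping as much of it as possible. -/
def Mx (H : Subgroup G) (σ : G) : Prop := σ ∈ H ∧ σ ∉ sb G (z1 K) ∧
  ∀ τ ∈ H, τ ∉ sb G (z1 K) → Nat.card (dd τ (z1 K)) ≤ Nat.card (dd σ (z1 K))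

theorem eq_zero_of_neg (h2 : (2 : K) ≠ 0) (e : v = -v) : v = 0 := by
  have : (2 : K) • v = 0 := by rw [two_smul]; exact add_eq_zero_iff_eq_neg.2 e
  exact (smul_eq_zero.1 this).resolve_left h2

theorem Tor.fix (T : Tor H h z l) (h2 : (2 : K) ≠ 0) {D : AddSubgroup (K × K × K)} (hD : D ≤ z1 K)
    (e : z • v - v ∈ D) : z • v = v := by
  have := T.zg.one _ (hD e)
  rw [smul_sub, ← mul_smul, T.zz, one_smul, ← neg_sub] at this
  exact sub_eq_zero.1 (eq_zero_of_neg h2 this.symm)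

theorem Tor.mem_z1 (T : Tor H h z l) (h2 : (2 : K) ≠ 0) (e : z • v = v) (hv : v ∈ z2 K) :
    v ∈ z1 K := by
  have := T.zg.two v hv
  rw [e] at this
  exact SX.mem_z1.2 ⟨mul_left_cancel₀ h2 (by linear_combination this), hv⟩

theorem Tor.neg (T : Tor H h z l) (h2 : (2 : K) ≠ 0) (e : z • v = -v) :
    v ∈ z2 K ∧ (v.2.1 = 0 → v = 0) := by
  have h1 : v ∈ z2 K := by
    have := T.zg.top v
    rw [e] at this
    exact mem_z2.2 (mul_left_cancel₀ h2 (by simp at this; linear_combination -this))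
  exact ⟨h1, fun h0 => eq_zero_of_neg h2 (by rw [← e, T.zg.one _ (SX.mem_z1.2 ⟨h0, h1⟩)])⟩

theorem Tor.trans (T : Tor H h z l) (h2 : (2 : K) ≠ 0) (e : z • v = -v) (e' : z • w = -w)
    (hv : v ≠ 0) (hw : w ≠ 0) : ∃ i : ℕ, h ^ i • v = w := by
  have h1 := mt (T.neg h2 e).2 hv
  obtain ⟨i, hi⟩ := T.gen (w.2.1 / v.2.1) (div_ne_zero (mt (T.neg h2 e').2 hw) h1)
  refine ⟨i, sub_eq_zero.1 ((T.neg h2 ?_).2 ?_)⟩
  · rw [smul_sub, e', ← mul_smul, ← (T.comm.pow_left i).eq, mul_smul, e, smul_neg]; abel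
  · simp [(T.gr.pow i).two _ (T.neg h2 e).1, hi, h1]

theorem Tor.span (T : Tor H h z l) (h2 : (2 : K) ≠ 0) (hl : l ^ 2 ≠ 1)
    {A : AddSubgroup (K × K × K)} (hA : ∀ a ∈ A, z • a = a ∧ h • a ∈ A) (hv : v ∉ z2 K)
    (h1 : h • v - v ∈ A) (e : z • w = w) : ∃ a ∈ A, w - a ∈ z1 K := by
  have h3 : ∀ i : ℕ, ∀ a ∈ A, h ^ i • a ∈ A := fun i => by
    induction i with
    | zero => simp
    | succ i ih => exact fun a ha => by rw [pow_succ, mul_smul]; exact ih _ (hA a ha).2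
  have h4 : ∀ x : K, ∃ a ∈ A, a.2.2 = x ^ 2 * ((l ^ 2 - 1) * v.2.2) := fun x => by
    by_cases hx : x = 0
    · exact ⟨0, zero_mem _, by simp [hx]⟩
    obtain ⟨i, rfl⟩ := T.gen x hx
    exact ⟨_, h3 i _ h1, by simp [(T.gr.pow i).top, T.gr.top]; left; ring⟩
  have h5 : (l ^ 2 - 1) * v.2.2 ≠ 0 := mul_ne_zero (sub_ne_zero.2 hl) hv
  generalize (l ^ 2 - 1) * v.2.2 = c at *
  obtain ⟨a, ha, ea⟩ := h4 ((w.2.2 / c + 1) / 2)
  obtain ⟨b, hb, eb⟩ := h4 ((w.2.2 / c - 1) / 2)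
  refine ⟨a - b, sub_mem ha hb, T.mem_z1 h2 (by rw [smul_sub, e, (hA _ (sub_mem ha hb)).1]) ?_⟩
  simp only [mem_z2, Prod.snd_sub, ea, eb]
  field_simp
  ring

variable [Finite K]

theorem Mx.of_le (a : Mx K H σ) (h1 : τ ∈ H) (h2 : τ ∉ sb G (z1 K))
    (h3 : dd σ (z1 K) ≤ dd τ (z1 K)) : Mx K H τ :=
  ⟨h1, h2, fun ρ e1 e2 => (a.2.2 ρ e1 e2).trans (card_le h3)⟩

theorem Mx.five (a : Mx K H σ) (hk : k ∈ H) (h1 : σ • v ∈ z1 K) (h2 : v ∉ z1 K)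
    (h3 : ∀ d ∈ dd σ (z1 K), k • d = d) (h4 : σ • k • v ∈ z1 K) : σ * k * σ⁻¹ ∈ sb G (z1 K) := by
  by_contra hn
  refine (a.2.2 _ (mul_mem (mul_mem a.1 hk) (inv_mem a.1)) hn).not_gt ?_
  rw [← AddSubgroup.card_map_of_injective (f := DistribSMul.toAddMonoidHom _ σ)
    (MulAction.injective σ)]
  refine card_lt ?_ (mem_dd.2 ⟨h1, by simpa [mul_smul] using h4⟩) ?_
  · rintro _ ⟨d, hd, rfl⟩
    exact mem_dd.2 ⟨hd.2, by simpa [mul_smul, h3 d hd] using (mem_dd.1 hd).2⟩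
  · rintro ⟨d, hd, e⟩
    exact h2 (MulAction.injective σ e ▸ hd.1)

variable [FaithfulSMul G (K × K × K)] [Finite G] [CharP K p] [hp : Fact p.Prime] (S : Cu p H U u)
  (h2 : (2 : K) ≠ 0)
include S

theorem Cu.exists_tor (hT : ∀ l : K, l ≠ 0 → ∃ g ∈ H, Gr g l) : ∃ h z, ∃ l : K, Tor H h z l := by
  obtain ⟨l, hl⟩ := IsCyclic.exists_monoid_generator (α := Kˣ)
  obtain ⟨g, hg, a⟩ := hT l l.ne_zero
  have gen : ∀ x : K, x ≠ 0 → ∃ i : ℕ, (l : K) ^ i = x := fun x hx =>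
    let ⟨i, hi⟩ := hl (Units.mk0 x hx)
    ⟨i, by simpa using congrArg Units.val hi⟩
  have := Fintype.ofFinite K
  obtain ⟨n, -, hn⟩ := FiniteField.card K p
  have b := a.pow (Fintype.card K)
  rw [FiniteField.pow_card] at b
  have key : ∀ j, (l : K) ^ j = 1 → (g ^ Fintype.card K) ^ j = 1 := fun j hj => by
    obtain ⟨s, hs⟩ := (S.mem _).1 (S.mem_of_gr (pow_mem hg j) (hj ▸ a.pow j))
    rw [← pow_mul, mul_comm, pow_mul, hs, S.u_pow, FiniteField.cast_card_eq_zero, zero_mul, S.u_zero]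
  obtain ⟨i, hi⟩ := gen (-1) (by simp)
  exact ⟨_, _, l, pow_mem hg _, b, gen, pow_mem (pow_mem hg _) i, hi ▸ b.pow i, by
    rw [← pow_add]; exact key _ (by rw [pow_add, hi]; simp), Commute.self_pow _ _⟩

omit [Finite K] [CharP K p] in
theorem Cu.exists_conj {P : Subgroup G} {D : AddSubgroup (K × K × K)} (hD : D ≤ z1 K)
    (hP : P ≤ H ⊓ tr G D ⊥) (e : p ∣ Nat.card P) :
    ∃ x ∈ P, ∃ k ∈ H ⊓ tr G D ⊥, ∃ t ≠ 0, k * x * k⁻¹ = u t := by
  obtain ⟨x, hx⟩ := exists_prime_orderOf_dvd_card' p e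
  obtain ⟨k, hk, h1⟩ := (S.syl.mono (le_inf S.syl.le fun g hg => mem_tr_bot.2 fun d hd =>
    (S.le hg).2.2 d (hD hd)) inf_le_left).exists_cj_le (H68.isPGroup_zpowers (k := 1) (x := x.1)
      (by rw [pow_one, ← hx, ← orderOf_coe, pow_orderOf_eq_one])) (zpowers_le.2 (hP x.2))
  obtain ⟨t, ht⟩ := (S.mem _).1 (H68.cj_le_iff'.1 h1 _ (mem_zpowers _))
  refine ⟨x, x.2, k, hk, t, ?_, ht⟩
  rintro rfl
  rw [S.u_zero, conj_eq_one_iff] at ht
  exact hp.out.ne_one (by rw [← hx, orderOf_eq_one_iff]; exact Subtype.ext ht)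

include h2

omit hp in
theorem Mx.four (T : Tor H h z l) (a : Mx K H σ) (hD : dd σ (z1 K) ≠ ⊥) (h1 : σ • v ∈ z1 K)
    (hv : v ∈ z2 K) : v ∈ z1 K := by
  by_contra hn
  obtain ⟨d, hd, h0⟩ := (AddSubgroup.bot_or_exists_ne_zero _).resolve_left hD
  have h3 : v.2.1 ≠ 0 := fun e => hn (mem_z1.2 ⟨e, hv⟩)
  have e : u (d.1 / (2 * v.2.1)) • v = v + d := by
    rw [S.act, mem_z2.1 hv]
    ext <;> simp [(mem_z1.1 hd.1).1, (mem_z1.1 hd.1).2, mem_z2.1 hv]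
    field_simp
  have h4 := a.five (S.mem_H (d.1 / (2 * v.2.1))) h1 hn (fun x hx => (S.gr _).one x hx.1)
    (by rw [e, smul_add]; exact add_mem h1 (mem_dd.1 hd).2)
  have h5 := conj_mem_of_sb hM3 S.syl S.le (inv_mem a.1) (S.mem_U (d.1 / (2 * v.2.1)))
    (by rwa [inv_inv]) (by
      rw [inv_inv]
      exact S.sb_of_sb h2 T.zm T.zg (mul_mem (mul_mem a.1 (S.mem_H _)) (inv_mem a.1)) h4)
  have := (S.le h5).2.2 _ h1
  simp only [mul_smul, inv_inv, inv_smul_smul, e, smul_left_cancel_iff, add_eq_left] at this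
  exact h0 this

omit hp in
theorem Mx.fix (T : Tor H h z l) (a : Mx K H σ) (hD : dd σ (z1 K) ≠ ⊥)
    (h1 : σ * z * σ⁻¹ ∈ sb G (z1 K)) : ∀ v ∈ z1 K, (σ * z * σ⁻¹) • v = v := fun v hv => by
  have h3 : σ • (z • σ⁻¹ • v - σ⁻¹ • v) ∈ z1 K := by
    simpa [smul_sub, mul_smul] using sub_mem (sb_mem h1 hv) hv
  rw [mul_smul, mul_smul, T.fix h2 le_rfl (a.four S h2 T hD h3 (by simp [mem_z2, T.zg.top])),
    smul_inv_smul]

omit hp in
theorem Mx.exists_comm (T : Tor H h z l) (a : Mx K H σ) (hD : dd σ (z1 K) ≠ ⊥) :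
    ∃ τ, Mx K H τ ∧ dd τ (z1 K) ≠ ⊥ ∧ Commute τ z := by
  obtain ⟨x, hx, hx'⟩ := exists_of_not_sb (mt (fun e => (inv_mem_iff).1 e) a.2.1)
  have h3 : σ⁻¹ • x ∉ z2 K := mt (a.four S h2 T hD (by simpa using hx)) hx'
  obtain ⟨e, he⟩ : ∃ e, σ⁻¹ • x = e := ⟨_, rfl⟩
  rw [he] at hx' h3
  obtain ⟨t, ht⟩ : ∃ t, z • u t • e = u t • e := by
    refine ⟨((z • ((0, 0, e.2.2) : K × K × K)).2.1 / 2 - e.2.1) / e.2.2, T.fix h2 le_rfl ?_⟩
    generalize hf : u _ • e = f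
    have e1 : f.2.2 = e.2.2 := by rw [← hf, S.act]
    have e2 : 2 * f.2.1 = (z • ((0, 0, e.2.2) : K × K × K)).2.1 := by
      rw [← hf, S.act]
      have : e.2.2 ≠ 0 := h3
      field_simp
      ring
    have e3 := T.zg.two (f - (0, 0, e.2.2)) (by simp [mem_z2, e1])
    rw [smul_sub] at e3
    refine mem_z1.2 ⟨?_, by simp [T.zg.top]⟩
    simp at e3 ⊢
    linear_combination e3 - e2
  have h4 : ∀ s, dd σ (z1 K) ≤ dd (σ * u s) (z1 K) := fun s d hd =>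
    mem_dd.2 ⟨hd.1, by rw [mul_smul, (S.gr s).one d hd.1]; exact hd.2⟩
  have b := a.of_le (mul_mem a.1 (S.mem_H (-t)))
    (fun e => a.2.1 ((mul_mem_cancel_right (S.gr (-t)).sb1).1 e)) (h4 _)
  have hD' : dd (σ * u (-t)) (z1 K) ≠ ⊥ := fun e => hD (le_bot_iff.1 (e ▸ h4 _))
  have h5 : (σ * u (-t)) • u t • e ∈ z1 K := by simpa [← S.u_inv, mul_smul, ← he] using hx
  have h6 := b.five T.zm h5 (mt (sb_iff (S.gr t).sb1).1 hx') (fun d hd => T.zg.one d hd.1)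
    (by rwa [ht])
  generalize σ * u (-t) = ρ at *
  obtain ⟨c, -⟩ := S.gr_conj h2 T.zm T.zg T.zz b.1 (b.fix S h2 T hD' h6)
  obtain ⟨s, hs⟩ := (S.mem _).1 (S.mem_of_gr (mul_mem (mul_mem (mul_mem b.1 T.zm) (inv_mem b.1)) T.zm)
    (by simpa using c.mul T.zg))
  obtain ⟨-, c'⟩ := S.gr_conj h2 T.zm T.zg T.zz (one_mem _) (by simpa using T.zg.one)
  simp only [one_mul, inv_one, mul_one] at c'
  have h7 : dd ρ (z1 K) ≤ dd (u (-s / 2) * ρ) (z1 K) := fun d hd =>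
    mem_dd.2 ⟨hd.1, by rw [mul_smul]; exact sb_mem (S.gr _).sb1 hd.2⟩
  refine ⟨u (-s / 2) * ρ, b.of_le (mul_mem (S.mem_H _) b.1)
    (fun e => b.2.1 ((mul_mem_cancel_left (S.gr _).sb1).1 e)) h7,
    fun e => hD' (le_bot_iff.1 (e ▸ h7)), ?_⟩
  have e1 : ρ * z = u s * z * ρ := by
    rw [← hs, mul_assoc _ z z, T.zz]; group
  show u (-s / 2) * ρ * z = z * (u (-s / 2) * ρ)
  rw [mul_assoc, e1, ← mul_assoc z, mul_inv_eq_iff_eq_mul.1 (c' (-s / 2)), ← mul_assoc,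
    ← mul_assoc, S.u_mul]
  congr 3
  field_simp
  ring

theorem Mx.cent (T : Tor H h z l) (a : Mx K H σ) (hD : dd σ (z1 K) ≠ ⊥) :
    ¬ p ∣ Nat.card (H ⊓ tr G (dd σ (z1 K)) ⊥ ⊓ centralizer {z} : Subgroup G) := fun e => by
  obtain ⟨x, hx, k, hk, t, ht, e1⟩ := S.exists_conj inf_le_left inf_le_left e
  have c : k * z * k⁻¹ * u t = u t * (k * z * k⁻¹) := by
    rw [← e1, conj_mul, conj_mul, mem_centralizer_singleton_iff.1 hx.2]
  have h3 : k * z * k⁻¹ ∈ sb G (z1 K) := mem_sb fun v hv => S.fix h2 ht (by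
    rw [← mul_smul, ← c, mul_smul, (S.gr t).one v hv])
  have h4 := (S.gr_conj h2 T.zm T.zg T.zz hk.1 (by
    by_cases hn : k ∈ sb G (z1 K)
    · exact fun v hv => by rw [mul_smul, mul_smul, T.zg.one _ (sb_mem (inv_mem hn) hv), smul_inv_smul]
    · have h5 : dd σ (z1 K) ≤ dd k (z1 K) := fun d hd =>
        mem_dd.2 ⟨hd.1, by rw [mem_tr_bot.1 hk.2 d hd]; exact hd.1⟩
      exact (a.of_le hk.1 hn h5).fix S h2 T (fun e => hD (le_bot_iff.1 (e ▸ h5))) h3)).2 t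
  rw [c, mul_inv_cancel_right] at h4
  have := congrArg (fun g : G => (g • ((0, 0, 1) : K × K × K)).2.1) h4
  simp only [S.act] at this
  exact ht (mul_left_cancel₀ h2 (by linear_combination this))

theorem Mx.stab (T : Tor H h z l) (a : Mx K H σ) (hD : dd σ (z1 K) ≠ ⊥) (hw : w ∈ z2 K)
    (hw' : w ∉ z1 K) :
    ¬ p ∣ Nat.card (H ⊓ tr G (dd σ (z1 K)) ⊥ ⊓ MulAction.stabilizer G w : Subgroup G) := fun e => by
  obtain ⟨x, hx, k, hk, t, ht, e1⟩ := S.exists_conj inf_le_left inf_le_left e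
  have h3 : k • w ∈ z1 K := S.fix h2 ht (by
    rw [← e1, mul_smul, inv_smul_smul, mul_smul, MulAction.mem_stabilizer_iff.1 hx.2])
  by_cases hn : k ∈ sb G (z1 K)
  · exact hw' ((sb_iff hn).1 h3)
  have h5 : dd σ (z1 K) ≤ dd k (z1 K) := fun d hd =>
    mem_dd.2 ⟨hd.1, by rw [mem_tr_bot.1 hk.2 d hd]; exact hd.1⟩
  exact hw' ((a.of_le hk.1 hn h5).four S h2 T (fun e => hD (le_bot_iff.1 (e ▸ h5))) h3 hw)

theorem Mx.exists_fix (T : Tor H h z l) (a : Mx K H σ) (hD : dd σ (z1 K) ≠ ⊥) (e : z • w = -w)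
    (hw : w ≠ 0) : ∃ y ∉ z2 K, z • y = y ∧
      ∀ x ∈ H ⊓ tr G (dd σ (z1 K)) ⊥, x • w = w → x • y = y := by
  obtain ⟨h3, h4⟩ := T.neg h2 e
  have h5 := a.stab S h2 T hD h3 fun e => hw (h4 (mem_z1.1 e).1)
  obtain ⟨d, hd, h0⟩ := (AddSubgroup.bot_or_exists_ne_zero _).resolve_left hD
  have d0 : d = (d.1, 0, 0) := Prod.ext rfl (Prod.ext (mem_z1.1 hd.1).1 (mem_z1.1 hd.1).2)
  have d1 : d.1 ≠ 0 := fun e => h0 (by rw [d0, e]; rfl)
  have w1 := mt h4 hw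
  obtain ⟨s, hs⟩ : ∃ s, 2 * s * w.2.1 = d.1 := ⟨d.1 / (2 * w.2.1), by field_simp⟩
  have s0 : s ≠ 0 := by rintro rfl; exact d1 (by simpa using hs.symm)
  have e1 : ∀ t, u t • w = w + (2 * t * w.2.1, 0, 0) := fun t => by
    simp [S.act, mem_z2.1 h3, Prod.ext_iff]
  have n : ∀ g ∈ H ⊓ tr G (dd σ (z1 K)) ⊥, (∀ x ∈ tr G (dd σ (z1 K)) ⊥, x • w = w →
      x • g⁻¹ • w = g⁻¹ • w) → ∀ v : K × K × K, g • nm (H ⊓ tr G (dd σ (z1 K)) ⊥ ⊓
        MulAction.stabilizer G w) v = nm (H ⊓ tr G (dd σ (z1 K)) ⊥ ⊓ MulAction.stabilizer G w) (g • v) :=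
    fun g hg e v => nm_conj fun x hx => ⟨Subgroup.mul_mem _ (Subgroup.mul_mem _ hg hx.1) (Subgroup.inv_mem _ hg), by
      show _ • w = w
      rw [mul_smul, mul_smul, e x hx.1.2 hx.2, smul_inv_smul]⟩
  have n1 := n (u s) ⟨S.mem_H s, mem_tr_bot.2 fun x hx => (S.gr s).one x hx.1⟩ fun x hx e => by
    rw [S.u_inv, e1, smul_add, e, mem_tr_bot.1 hx _ (by
      convert neg_mem hd using 1
      rw [d0, ← hs]; simp)]
  have n2 := n z ⟨T.zm, mem_tr_bot.2 fun x hx => T.zg.one x hx.1⟩ fun x _ e' => by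
    rw [inv_eq_of_mul_eq_one_left T.zz, e, smul_neg, e']
  have n3 := nm_of_fix (P := H ⊓ tr G (dd σ (z1 K)) ⊥ ⊓ MulAction.stabilizer G w) (v := d)
    fun x hx => mem_tr_bot.1 hx.1.2 d hd
  have n4 : ∀ x ∈ H ⊓ tr G (dd σ (z1 K)) ⊥, x • w = w → ∀ v : K × K × K, x • nm (H ⊓ tr G (dd σ (z1 K)) ⊥ ⊓
      MulAction.stabilizer G w) v = _ := fun x hx e v => nm_fix ⟨hx, e⟩
  generalize H ⊓ tr G (dd σ (z1 K)) ⊥ ⊓ MulAction.stabilizer G w = P at n1 n2 n3 n4 h5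
  obtain ⟨v, hv⟩ : ∃ v : K × K × K, u s • (u s • v - v) - (u s • v - v) = d :=
    ⟨(0, 0, d.1 / (2 * s ^ 2)), by rw [d0]; simp [S.act, Prod.ext_iff]; field_simp⟩
  refine ⟨nm P (v + z • v), fun h6 => h0 ?_, by
    rw [n2, smul_add, ← mul_smul, T.zz, one_smul, add_comm], fun x hx e => n4 x hx e _⟩
  have h7 : (nm P v).2.2 = 0 := by
    rw [map_add, ← n2, mem_z2] at h6
    exact mul_left_cancel₀ h2 (by simp [T.zg.top] at h6; linear_combination h6)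
  refine AddSubgroup.mem_bot.1 (mem_of_nsmul hp.out h5 (by ext <;> simp) ?_)
  rw [← n3, ← hv, map_sub, ← n1, map_sub, ← n1]
  simp [S.act, h7, Prod.ext_iff]

theorem Mx.eq_bot (T : Tor H h z l) (a : Mx K H σ) : dd σ (z1 K) = ⊥ := by
  by_contra hD
  obtain ⟨σ, a, hD, c⟩ := a.exists_comm S h2 T hD
  obtain ⟨x, hx, hx'⟩ := exists_of_not_sb a.2.1
  have hl : l ^ 2 ≠ 1 := fun hl => by
    obtain ⟨d, hd, h0⟩ := (AddSubgroup.bot_or_exists_ne_zero _).resolve_left hD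
    have e : ∀ v ∈ z1 K, v = (v.1, 0, 0) := fun v hv =>
      Prod.ext rfl (Prod.ext (mem_z1.1 hv).1 (mem_z1.1 hv).2)
    have d1 : d.1 ≠ 0 := fun e' => h0 (by rw [e d hd.1, e']; rfl)
    obtain ⟨i, hi⟩ := T.gen (x.1 / d.1) (div_ne_zero (fun e' => hx' (by
      rw [e x hx, e', show ((0, 0, 0) : K × K × K) = 0 from rfl, smul_zero]; exact zero_mem _)) d1)
    have : (x.1 / d.1) ^ 2 = 1 := by rw [← hi, ← pow_mul, mul_comm, pow_mul, hl, one_pow]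
    rcases mul_self_eq_one_iff.1 (sq (x.1 / d.1) ▸ this) with h | h
    · exact hx' (by rw [e x hx, (div_eq_one_iff_eq d1).1 h, ← e d hd.1]; exact hd.2)
    · rw [div_eq_iff d1] at h
      refine hx' (mem_dd.1 (show x ∈ dd σ (z1 K) from ?_)).2
      convert neg_mem hd using 1
      rw [e x hx, e d hd.1, h]; simp
  obtain ⟨w, e, hw⟩ : ∃ w : K × K × K, z • w = -w ∧ w ≠ 0 :=
    ⟨(0, 1, 0) - z • (0, 1, 0), by rw [smul_sub, ← mul_smul, T.zz, one_smul, neg_sub], fun e => h2 (by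
      have := congrArg (·.2.1) e
      simp [T.zg.two (0, 1, 0) rfl] at this
      linear_combination this)⟩
  obtain ⟨y, hy, e1, e2⟩ := a.exists_fix S h2 T hD e hw
  have h3 := a.cent S h2 T hD
  have m : ∀ τ ∈ H, Commute τ z → (∀ d ∈ dd σ (z1 K), τ • d ∈ z1 K) →
      τ⁻¹ * h * τ ∈ H ⊓ tr G (dd σ (z1 K)) ⊥ ⊓ centralizer {z} := fun τ h1 c h4 =>
    ⟨⟨H.mul_mem (H.mul_mem (H.inv_mem h1) T.mem) h1, mem_tr_bot.2 fun d hd => by
      rw [mul_smul, mul_smul, T.gr.one _ (h4 d hd), inv_smul_smul]⟩,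
      mem_centralizer_singleton_iff.2 ((c.inv_left.mul_left T.comm).mul_left c)⟩
  have m1 := m 1 (one_mem _) (Commute.one_left z) fun d hd => by rw [one_smul]; exact hd.1
  have m2 := m σ a.1 c fun d hd => hd.2
  have k1 : ∀ k ∈ H ⊓ tr G (dd σ (z1 K)) ⊥ ⊓ centralizer {z}, Commute k z := fun k hk =>
    mem_centralizer_singleton_iff.1 hk.2
  have k2 : ∀ k ∈ H ⊓ tr G (dd σ (z1 K)) ⊥ ⊓ centralizer {z}, k • w = w → k • y = y :=
    fun k hk => e2 k hk.1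
  generalize H ⊓ tr G (dd σ (z1 K)) ⊥ ⊓ centralizer {z} = P at h3 m1 m2 k1 k2
  have k3 : ∀ k : G, Commute k z → ∀ v : K × K × K, z • k • v = k • z • v := fun k c v => by
    rw [← mul_smul, ← c.eq, mul_smul]
  have orb : ∀ τ : G, Commute τ z → τ⁻¹ * h * τ ∈ P → ∀ k ∈ P, ∃ i : ℕ,
      k • y = (τ⁻¹ * h * τ) ^ i • y := fun τ c h1 k hk => by
    obtain ⟨i, hi⟩ := T.trans h2 (v := τ • w) (w := τ • k • w) (by rw [k3 τ c, e, smul_neg])
      (by rw [k3 τ c, k3 k (k1 k hk), e, smul_neg, smul_neg]) (by simpa [smul_eq_zero_iff_eq] using hw)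
      (by simpa [smul_eq_zero_iff_eq] using hw)
    refine ⟨i, ?_⟩
    rw [← inv_smul_eq_iff, ← mul_smul]
    refine k2 _ (mul_mem (inv_mem (pow_mem h1 i)) hk) ?_
    rw [mul_smul, inv_smul_eq_iff, show (τ⁻¹ * h * τ) ^ i = τ⁻¹ * h ^ i * τ by
      simpa using conj_pow (a := τ⁻¹) (b := h) (i := i), mul_smul, mul_smul, hi, inv_smul_smul]
  simp only [inv_one, one_mul, mul_one] at m1
  have o1 := orb 1 (Commute.one_left z) (by simpa using m1)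
  simp only [inv_one, one_mul, mul_one] at o1
  have hy' : σ • y ∉ z2 K := fun e' => by
    obtain ⟨i, hi⟩ := orb σ c m2 h m1
    refine hy (z1_le (T.gr.fix hl (hi.trans (MulAction.mem_stabilizer_iff.1 (pow_mem ?_ i)))))
    rw [MulAction.mem_stabilizer_iff, mul_smul, mul_smul,
      T.gr.one _ (T.mem_z1 h2 (by rw [k3 σ c, e1]) e'), inv_smul_smul]
  let V : AddSubgroup (K × K × K) := fp _ z ⊓ ⨅ k : P,
    ((nm (zpowers h)).comp (DistribSMul.toAddMonoidHom _ (k : G))).ker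
  have hV : ∀ v, v ∈ V ↔ z • v = v ∧ ∀ k ∈ P, nm (zpowers h) (k • v) = 0 := fun v => by
    simp only [V, AddSubgroup.mem_inf, AddSubgroup.mem_iInf, Subtype.forall]; rfl
  have v1 : ∀ k ∈ P, ∀ v ∈ V, k • v ∈ V := fun k hk v hv => (hV _).2
    ⟨by rw [k3 k (k1 k hk), ((hV v).1 hv).1], fun j hj => by
      rw [← mul_smul]; exact ((hV v).1 hv).2 _ (mul_mem hj hk)⟩
  have v2 : ∀ k ∈ P, k • y - y ∈ V := fun k hk => (hV _).2
    ⟨by rw [smul_sub, k3 k (k1 k hk), e1], fun j hj => by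
      obtain ⟨i, hi⟩ := o1 _ (mul_mem hj hk)
      obtain ⟨i', hi'⟩ := o1 _ hj
      rw [smul_sub, ← mul_smul, hi, hi', map_sub, nm_smul (npow_mem_zpowers h i),
        nm_smul (npow_mem_zpowers h i'), sub_self]⟩
  have v3 : ∀ v ∈ V, v ∈ z1 K → v = 0 := fun v hv h1 => AddSubgroup.mem_bot.1 (mem_of_nsmul hp.out
    (fun e => h3 (e.trans (card_dvd_of_le (zpowers_le.2 m1)))) (by ext <;> simp) (by
      rw [← nm_of_fix fun x hx => by
        exact zpowers_le.2 (show h ∈ MulAction.stabilizer G v from T.gr.one v h1) hx]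
      simpa using ((hV v).1 hv).2 1 (one_mem _)))
  have t : ∀ τ : G, Commute τ z → τ⁻¹ * h * τ ∈ P → τ • y ∉ z2 K →
      τ⁻¹ * h * τ ∈ P ⊓ tr G (fp (K × K × K) z) V := fun τ c h1 h4 =>
    ⟨h1, mem_sb fun v hv => show z • _ = _ by rw [k3 _ (k1 _ h1), hv], fun v hv => by
      obtain ⟨b, hb, h5⟩ := T.span h2 hl (A := V.comap (DistribSMul.toAddMonoidHom _ τ⁻¹))
        (fun b hb => ⟨MulAction.injective τ⁻¹ (by
          show τ⁻¹ • z • b = τ⁻¹ • b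
          rw [← k3 _ c.inv_left]; exact ((hV _).1 hb).1), by
          simpa [mul_smul] using v1 _ h1 _ hb⟩) h4
        (by simpa [mul_smul, smul_sub] using v2 _ h1) (w := τ • v) (by rw [k3 τ c, hv])
      have := T.gr.one _ h5
      rw [smul_sub, sub_eq_iff_eq_add] at this
      convert sub_mem (v1 _ h1 _ hb) hb using 1
      simp only [mul_smul, this, smul_add, smul_sub, inv_smul_smul, smul_inv_smul,
        DistribSMul.toAddMonoidHom_apply]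
      abel⟩
  have t1 := t 1 (Commute.one_left z) (by simpa using m1) (by simpa using hy)
  have t2 := t σ c m2 hy'
  simp only [inv_one, one_mul, mul_one] at t1
  have f1 := T.gr.fix hl (nm_fix (v := x) t1)
  have f2 := T.gr.fix hl (v := σ • nm (P ⊓ tr G (fp (K × K × K) z) V) x) (by
    have := nm_fix (v := x) t2
    rwa [mul_smul, mul_smul, inv_smul_eq_iff] at this)
  have f3 := v3 _ (nm_sub (P := P ⊓ tr G (fp (K × K × K) z) V) fun k hk => hk.2.2 x (T.zg.one x hx))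
    (sub_mem f1 (nsmul_mem hx _))
  refine hx' (mem_dd.1 (mem_of_nsmul hp.out (fun e => h3 (e.trans (card_dvd_of_le
    (inf_le_left (b := tr G (fp (K × K × K) z) V))))) (by ext <;> simp) ?_)).2
  rw [← sub_eq_zero.1 f3]
  exact ⟨f1, f2⟩

/-- A nontrivial invariant subgroup of the bottom layer makes the whole flag invariant. -/
theorem Cu.le_sb (hT : ∀ l : K, l ≠ 0 → ∃ g ∈ H, Gr g l) {N : AddSubgroup (K × K × K)} (h0 : N ≠ ⊥)
    (h1 : N ≤ z1 K) (h3 : H ≤ sb G N) : H ≤ sb G (z1 K) ⊓ sb G (z2 K) := by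
  obtain ⟨h, z, l, T⟩ := S.exists_tor hT
  have : H ≤ sb G (z1 K) := fun g hg => by_contra fun hn => by
    obtain ⟨σ, ⟨h4, h5⟩, hmax⟩ := H90.exists_max_of_bdd (s := fun σ => σ ∈ H ∧ σ ∉ sb G (z1 K))
      (f := fun σ => Nat.card (dd σ (z1 K))) (N := Nat.card (z1 K))
      (fun σ _ => card_le inf_le_left) ⟨g, hg, hn⟩
    exact h0 (le_bot_iff.1 (Mx.eq_bot S h2 T ⟨h4, h5, fun τ e1 e2 => hmax τ ⟨e1, e2⟩⟩ ▸
      fun x hx => mem_dd.2 ⟨h1 hx, h1 (sb_mem (h3 h4) hx)⟩))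
  exact le_inf this fun g hg => S.sb_of_sb h2 T.zm T.zg hg (this hg)

omit S h2 [Finite K] [FaithfulSMul G (K × K × K)] [Finite G] [CharP K p] hp in
theorem sxcubv_eq_defs : True := by
  have := @Mx.eq_1.{0, 0}
  trivial

end H93.SX
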