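import Mathlib
import Cfsg.Agent.Base
import Cfsg.Agent.S0245

/-!
The Sylow `p`-subgroup of `Sp₄(K)` in coordinates.
-/

set_option autoImplicit false

namespace H93.SX

open Subgroup Matrix
open scoped commutatorElement

/-- The unipotent group of `Sp₄(K)`. -/
@[ext] structure Un (K : Type*) where
  t : K
  a : K
  b : K
  c : K

variable {K : Type*} [Field K] {x y z : Un K} {μ : K}

namespace Un

instance : Mul (Un K) := ⟨fun x y =>
  ⟨x.t + y.t, x.a + y.a + 2 * x.t * y.b + x.t ^ 2 * y.c, x.b + y.b + x.t * y.c, x.c + y.c⟩⟩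
instance : One (Un K) := ⟨⟨0, 0, 0, 0⟩⟩
instance : Inv (Un K) := ⟨fun x => ⟨-x.t, -x.a + 2 * x.t * x.b - x.t ^ 2 * x.c, -x.b + x.t * x.c, -x.c⟩⟩

@[simp] theorem mul_t : (x * y).t = x.t + y.t := rfl
@[simp] theorem mul_a : (x * y).a = x.a + y.a + 2 * x.t * y.b + x.t ^ 2 * y.c := rfl
@[simp] theorem mul_b : (x * y).b = x.b + y.b + x.t * y.c := rfl
@[simp] theorem mul_c : (x * y).c = x.c + y.c := rfl
@[simp] theorem one_t : (1 : Un K).t = 0 := rfl
@[simp] theorem one_a : (1 : Un K).a = 0 := rfl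
@[simp] theorem one_b : (1 : Un K).b = 0 := rfl
@[simp] theorem one_c : (1 : Un K).c = 0 := rfl
@[simp] theorem inv_t : x⁻¹.t = -x.t := rfl
@[simp] theorem inv_a : x⁻¹.a = -x.a + 2 * x.t * x.b - x.t ^ 2 * x.c := rfl
@[simp] theorem inv_b : x⁻¹.b = -x.b + x.t * x.c := rfl
@[simp] theorem inv_c : x⁻¹.c = -x.c := rfl

instance : Group (Un K) := Group.ofLeftAxioms (fun _ _ _ => by ext <;> simp <;> ring)
  (fun _ => by ext <;> simp) fun _ => by ext <;> simp <;> ring

@[simp] theorem comm_t : ⁅x, y⁆.t = 0 := by simp [commutatorElement_def]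
@[simp] theorem comm_a :
    ⁅x, y⁆.a = 2 * x.t * y.b + x.t ^ 2 * y.c - 2 * y.t * x.b - y.t ^ 2 * x.c := by
  simp [commutatorElement_def]; ring
@[simp] theorem comm_b : ⁅x, y⁆.b = x.t * y.c - y.t * x.c := by simp [commutatorElement_def]; ring
@[simp] theorem comm_c : ⁅x, y⁆.c = 0 := by simp [commutatorElement_def]

theorem eq_one : x = 1 ↔ x.t = 0 ∧ x.a = 0 ∧ x.b = 0 ∧ x.c = 0 := Un.ext_iff

theorem comm_eq : ⁅x, y⁆ = 1 ↔ 2 * x.t * y.b + x.t ^ 2 * y.c - 2 * y.t * x.b - y.t ^ 2 * x.c = 0 ∧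
    x.t * y.c - y.t * x.c = 0 := by simp [eq_one]

/-- The coordinates. -/
def eqv : Un K ≃ K × K × K × K :=
  ⟨fun x => (x.t, x.a, x.b, x.c), fun v => ⟨v.1, v.2.1, v.2.2.1, v.2.2.2⟩, fun _ => rfl, fun _ => rfl⟩

instance [Finite K] : Finite (Un K) := Finite.of_equiv _ eqv.symm

theorem card : Nat.card (Un K) = Nat.card K ^ 4 := by
  rw [Nat.card_congr eqv]; simp only [Nat.card_prod]; ring

end Un

open Un

variable (K) in
/-- The abelian radical. -/
def V1 : Subgroup (Un K) where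
  carrier := {x | x.t = 0}
  one_mem' := rfl
  mul_mem' := fun {a b} ha hb => by simp_all
  inv_mem' := fun {a} ha => by simp_all

/-- The subgroups of index `q` other than `V1`. -/
def Qm (μ : K) : Subgroup (Un K) where
  carrier := {x | x.c = μ * x.t}
  one_mem' := by simp
  mul_mem' := fun {a b} ha hb => by simp_all [mul_add]
  inv_mem' := fun {a} ha => by simp_all

variable (K) in
/-- The derived group. -/
def Z2 : Subgroup (Un K) where
  carrier := {x | x.t = 0 ∧ x.c = 0}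
  one_mem' := ⟨rfl, rfl⟩
  mul_mem' := fun {a b} ha hb => by simp_all
  inv_mem' := fun {a} ha => by simp_all

variable (K) in
/-- The long root subgroup in the centre. -/
def Z1 : Subgroup (Un K) where
  carrier := {x | x.t = 0 ∧ x.b = 0 ∧ x.c = 0}
  one_mem' := ⟨rfl, rfl, rfl⟩
  mul_mem' := fun {a b} ha hb => by simp_all
  inv_mem' := fun {a} ha => by simp_all

@[simp] theorem mem_V1 : x ∈ V1 K ↔ x.t = 0 := Iff.rfl
@[simp] theorem mem_Qm : x ∈ Qm μ ↔ x.c = μ * x.t := Iff.rfl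
@[simp] theorem mem_Z2 : x ∈ Z2 K ↔ x.t = 0 ∧ x.c = 0 := Iff.rfl
@[simp] theorem mem_Z1 : x ∈ Z1 K ↔ x.t = 0 ∧ x.b = 0 ∧ x.c = 0 := Iff.rfl

theorem Z1_le : Z1 K ≤ Z2 K := fun _ h => ⟨h.1, h.2.2⟩
theorem Z2_le : Z2 K ≤ V1 K := fun _ h => h.1
theorem Z2_le_Q : Z2 K ≤ Qm μ := fun _ h => by simp_all
theorem comm_Z2 (x y : Un K) : ⁅x, y⁆ ∈ Z2 K := by simp
theorem comm_Z1 (x : Un K) (h : y ∈ Z2 K) : ⁅x, y⁆ ∈ Z1 K := by simp_all
theorem comm_Z0 (x : Un K) (h : y ∈ Z1 K) : ⁅x, y⁆ = 1 := by simp_all [comm_eq]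
theorem comm_V (h : x ∈ V1 K) (h' : y ∈ V1 K) : ⁅x, y⁆ = 1 := by simp_all [comm_eq]

/-- The embedding in the symplectic group. -/
def toSp : Un K →* symplecticGroup (Fin 2) K := MonoidHom.mk' (fun x =>
  ⟨fromBlocks !![1, x.t; 0, 1] !![x.a - x.t * x.b, x.b; x.b - x.t * x.c, x.c] 0 !![1, 0; -x.t, 1],
    SymplecticGroup.mem_iff.2 (by
      rw [J, fromBlocks_transpose, fromBlocks_multiply, fromBlocks_multiply]
      congr 1 <;> ext i j <;> fin_cases i <;> fin_cases j <;> simp [vecMul, dotProduct] <;> ring)⟩)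
  fun x y => Subtype.ext (by
    show fromBlocks _ _ _ _ = fromBlocks _ _ _ _ * fromBlocks _ _ _ _
    rw [fromBlocks_multiply]
    congr 1 <;> ext i j <;> fin_cases i <;> fin_cases j <;> simp [Matrix.mul_apply] <;> ring)

theorem toSp_inj : Function.Injective (toSp (K := K)) := (injective_iff_map_eq_one _).2 fun x h => by
  have h1 : x.t = 0 := by simpa [toSp] using congrArg (fun m => m.1 (.inl 0) (.inl 1)) h
  have h2 : x.b = 0 := by simpa [toSp] using congrArg (fun m => m.1 (.inl 0) (.inr 1)) h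
  exact eq_one.2 ⟨h1, by simpa [toSp, h1] using congrArg (fun m => m.1 (.inl 0) (.inr 0)) h, h2,
    by simpa [toSp] using congrArg (fun m => m.1 (.inl 1) (.inr 1)) h⟩

theorem pg_un (p : ℕ) [Fact p.Prime] [Finite K] [CharP K p] : IsPGroup p (Un K) := by
  have := Fintype.ofFinite K
  obtain ⟨n, -, h⟩ := FiniteField.card K p
  exact .of_card (n := n * 4) (by rw [card, Nat.card_eq_fintype_card, h, pow_mul])

theorem exists_equiv (p : ℕ) [hp : Fact p.Prime] [Fintype K] [CharP K p]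
    (T : Sylow p (symplecticGroup (Fin 2) K)) : Nonempty (Un K ≃* T) := by
  obtain ⟨n, -, h⟩ := FiniteField.card K p
  have k : ∀ m, ¬ p ∣ Fintype.card K ^ (m + 1) - 1 := fun m d => hp.out.one_lt.ne' (Nat.dvd_one.1
    ((Nat.dvd_add_right d).1 (by
      rw [Nat.sub_add_cancel (Nat.one_le_pow _ _ Fintype.card_pos), h]
      exact dvd_pow (dvd_pow_self p n.ne_zero) m.succ_ne_zero)))
  have k' : ¬ p ∣ ∏ i ∈ Finset.range 2, (Fintype.card K ^ (2 * (i + 1)) - 1) := fun d =>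
    let ⟨i, _, hi⟩ := (hp.out.prime.dvd_finsetProd_iff _).1 d
    k (2 * i + 1) hi
  refine ⟨(MonoidHom.ofInjective toSp_inj).trans ((Sylow.ofCard toSp.range ?_).equiv T)⟩
  rw [← Nat.card_congr (MonoidHom.ofInjective toSp_inj).toEquiv, card,
    Cfsg.Agent.S0245.result rfl, Nat.factorization_def _ hp.out,
    padicValNat.mul (pow_ne_zero _ Fintype.card_ne_zero) (mt (fun e => (dvd_zero p).trans e.symm.dvd) k'),
    padicValNat.eq_zero_of_not_dvd k', Nat.card_eq_fintype_card, h, ← pow_mul, ← pow_mul,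
    padicValNat.prime_pow]
  rfl

section Two

variable [CharP K 2]

theorem two0 : (2 : K) = 0 := CharP.cast_eq_zero K 2

/-- The graph endomorphism. -/
def gr : Un K →* Un K := MonoidHom.mk'
  (fun x => ⟨x.c, x.b ^ 2 + x.c ^ 2 * x.t ^ 2, x.a + x.c * x.t ^ 2, x.t ^ 2⟩) fun x y => by
    have := two0 (K := K)
    ext <;> simp <;> grind

theorem gr_inj : Function.Injective (gr (K := K)) := (injective_iff_map_eq_one _).2 fun x h => by
  obtain ⟨h1, h2, h3, h4⟩ := eq_one.1 h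
  simp only [gr, MonoidHom.mk'_apply] at h1 h2 h3 h4
  simp_all [eq_one]

/-- The graph automorphism. -/
noncomputable def gre [Finite K] : Un K ≃* Un K :=
  MulEquiv.ofBijective gr (Finite.injective_iff_bijective.1 gr_inj)

/-- The involution that interchanges the two radicals and fixes `Z1`. -/
def sw (hK : ∀ x : K, x ^ 4 = x) : Un K ≃* Un K :=
  have := two0 (K := K)
  MonoidHom.toMulEquiv (MonoidHom.mk' (fun x => ⟨x.c, x.a ^ 2 + x.c ^ 2 * x.t, x.b + x.c * x.t, x.t⟩)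
    fun x y => by have := hK x.t; ext <;> simp <;> grind)
    (MonoidHom.mk' (fun x => ⟨x.c, x.a ^ 2 + x.c ^ 2 * x.t, x.b + x.c * x.t, x.t⟩)
    fun x y => by have := hK x.t; ext <;> simp <;> grind)
    (by ext x <;> simp <;> have := hK x.c <;> have := hK x.a <;> grind)
    (by ext x <;> simp <;> have := hK x.c <;> have := hK x.a <;> grind)

/-- A central automorphism. -/
def sh (f φ : K →+ K) : Un K ≃* Un K where
  toFun x := ⟨x.t, x.a + f x.c, x.b + φ x.c, x.c⟩
  invFun x := ⟨x.t, x.a - f x.c, x.b - φ x.c, x.c⟩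
  left_inv x := by simp
  right_inv x := by simp
  map_mul' x y := by ext <;> simp [two0] <;> ring

end Two

theorem sxgrp_eq_defs : True := by
  have := @Un.eqv.eq_1.{0}
  have := @V1.eq_1.{0}
  have := @Qm.eq_1.{0}
  have := @Z2.eq_1.{0}
  have := @Z1.eq_1.{0}
  have := @toSp.eq_1.{0}
  have := @gr.eq_1.{0}
  have := @gre.eq_1.{0}
  have := @sw.eq_1.{0}
  have := @sh.eq_1.{0}
  trivial

end H93.SX
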