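import Mathlib
import Cfsg.Agent.Base
import Cfsg.Agent.Lib.SpX.Ch
import Cfsg.Agent.Lib.SpX.Grp
import Cfsg.Agent.Lib.SpX.CubV

/-!
Fusion systems over a Sylow `p`-subgroup of `Sp₄(q)` with a normal subgroup: odd characteristic.
-/

set_option autoImplicit false

namespace H93.SX

open Subgroup Cfsg Cfsg.FusionSystem H93.R3 Un
open H68 (SylowIn)
open scoped commutatorElement

local notation:max "𝐂(" A ")" => Subgroup.centralizer (SetLike.coe A)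

universe u

section Gen

variable {W Γ M : Type*} [Group W] [Group Γ] [AddCommGroup M] [Finite Γ] [Finite M] {ι : W →* Γ}
  {E X : Subgroup W} {g : Γ} {c : W → M} {φ : M ≃ₗ[ℤ] M} {Y : AddSubgroup M}

instance finAut : Finite (M ≃ₗ[ℤ] M) := Finite.of_injective _ DFunLike.coe_injective

omit [Finite Γ] in
theorem Ac.sb (a : Ac ι E c g φ) (i : Function.Injective ι) (o : Co ι E c)
    (hY : ∀ x ∈ E, c x ∈ Y ↔ x ∈ X) (hg : g ∈ nr ι X) : φ ∈ sb _ Y := mem_sb fun m hm => by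
  obtain ⟨x, hx, rfl⟩ := o.surj m
  obtain ⟨y, hy, e⟩ := nr_cj a.1 hx
  rw [a.2 x hx y hy e, hY y hy]
  exact e.mem i hg ((hY x hx).1 hm)

omit [Finite M] in
theorem Ac.nr (a : Ac ι E c g φ) (hX : X ≤ E) (hY : ∀ x ∈ E, c x ∈ Y ↔ x ∈ X) (h : φ ∈ SX.sb _ Y) :
    g ∈ nr ι X := mem_nr_of a.1 hX fun x hx y hy e =>
  (hY y hy).1 (a.2 x (hX hx) y hy e ▸ sb_mem h ((hY x (hX hx)).2 hx))

omit [Finite M] in
theorem Co.nr_le (o : Co ι E c) {i : Function.Injective ι} (hX : X ≤ E)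
    (hY : ∀ x ∈ E, c x ∈ Y ↔ x ∈ X) (h : au i E c ⊤ ≤ sb _ Y) : nr ι E ≤ nr ι X := fun g hg =>
  let ⟨_, a⟩ := o.exists_ac hg
  a.nr hX hY (h ⟨g, trivial, a⟩)

end Gen

variable {K : Type*} {Γ : Type u} [Field K] [Group Γ] {p : ℕ} {ι : Un K →* Γ}
  {E N : Subgroup (Un K)} {g k : Γ} {x y s : Un K} {μ ν l : K}

/-- Coordinates on the abelian radical. -/
def cV (x : Un K) : K × K × K := (x.a, x.b, x.c)

/-- Coordinates on `Qm μ` modulo its centre. -/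
def cQ (μ : K) (x : Un K) : K × K := (x.b - μ * x.t ^ 2 / 2, x.t)

/-- The cubic action. -/
def uV (t : K) : (K × K × K) ≃ₗ[ℤ] (K × K × K) := AddEquiv.toIntLinearEquiv
  { toFun v := (v.1 + 2 * t * v.2.1 + t ^ 2 * v.2.2, v.2.1 + t * v.2.2, v.2.2)
    invFun v := (v.1 - 2 * t * v.2.1 + t ^ 2 * v.2.2, v.2.1 - t * v.2.2, v.2.2)
    left_inv v := by ext <;> simp; ring
    right_inv v := by ext <;> simp; ring
    map_add' v w := by ext <;> simp <;> ring }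

/-- A shear. -/
def uS (s : K) : (K × K) ≃ₗ[ℤ] (K × K) := AddEquiv.toIntLinearEquiv
  { toFun v := (v.1 + s * v.2, v.2)
    invFun v := (v.1 - s * v.2, v.2)
    left_inv v := by simp
    right_inv v := by simp
    map_add' v w := by ext <;> simp; ring }

/-- The action of a torus of the automizer of `Qm μ`. -/
structure To (ι : Un K →* Γ) (μ : K) (g : Γ) (l : K) : Prop where
  top : g ∈ nr ι ⊤
  q : g ∈ nr ι (Qm μ)
  z : ∀ x ∈ Z1 K, Cj ι g x x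
  b : ∀ x ∈ Z2 K, ∀ y, Cj ι g x y → y ∈ Z2 K ∧ y.b = l * x.b
  t : ∀ x ∈ Qm μ, ∀ y, Cj ι g x y → l * y.t = x.t

theorem coV (i : Function.Injective ι) : Co ι (V1 K) cV :=
  ⟨fun x hx y _ => by simp_all [cV], fun v => ⟨⟨0, v.1, v.2.1, v.2.2⟩, rfl, rfl⟩,
    fun g _ x hx y _ e h => by
      obtain rfl : x = 1 := by simp_all [cV, eq_one]
      rw [e.uniq i (z := 1) (by simp [Cj])]; rfl⟩

theorem seV : Se (V1 K) (Z2 K) (Z1 K) ⊥ := ⟨Z2_le, Z1_le, bot_le, fun t x _ => comm_Z2 t x,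
  fun t _ => comm_Z1 t, fun t _ => comm_Z0 t, fun _ _ h => by simp_all⟩

theorem seQ : Se (Qm μ) (Z2 K) (Z1 K) ⊥ := ⟨Z2_le_Q, Z1_le, bot_le, fun t x _ => comm_Z2 t x,
  fun t _ => comm_Z1 t, fun t _ => comm_Z0 t, fun _ _ h => by simp_all⟩

theorem seT : Se ⊤ (V1 K) (Z2 K) (Z1 K) := ⟨le_top, Z2_le, Z1_le, fun t x _ => Z2_le (comm_Z2 t x),
  fun t x _ => comm_Z2 t x, fun t _ => comm_Z1 t, fun t _ => comm_Z0 t⟩

theorem mem_Z1_of (h2 : (2 : K) ≠ 0) (hs : s.t ≠ 0) (h : ⁅x, s⁆ = 1) (hx : x.t = 0) : x ∈ Z1 K := by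
  obtain ⟨a, b⟩ := comm_eq.1 h
  simp_all

theorem comm_of (hs : s.t ≠ 0) (h : ⁅x, s⁆ = 1) (h' : ⁅y, s⁆ = 1) : ⁅x, y⁆ = 1 := by
  rw [comm_eq] at *
  exact ⟨mul_left_cancel₀ hs (by linear_combination (-x.t) * h'.1 + y.t * h.1 +
    (x.t * s.t - x.t ^ 2) * h'.2 + (y.t ^ 2 - y.t * s.t) * h.2),
    mul_left_cancel₀ hs (by linear_combination y.t * h.2 - x.t * h'.2)⟩

variable [Finite Γ]

theorem acV (i : Function.Injective ι) (w : Un K) : Ac ι (V1 K) cV (ι w) (uV w.t) :=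
  ⟨self_nr fun x _ => Z2_le (comm_Z2 w x), fun x hx y _ e => by
    obtain rfl := e.uniq i (Cj.self w x)
    show (_, _, _) = (_, _, _)
    simp_all [cV]
    constructor <;> ring⟩

theorem acQ (i : Function.Injective ι) (μ : K) (w : Un K) :
    Ac ι (Qm μ) (cQ μ) (ι w) (uS (μ * w.t - w.c)) :=
  ⟨self_nr fun x _ => Z2_le_Q (comm_Z2 w x), fun x hx y _ e => by
    obtain rfl := e.uniq i (Cj.self w x)
    show (_, _) = (_, _)
    simp_all [cQ]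
    ring⟩

theorem nr_Z1 (i : Function.Injective ι) (h2 : (2 : K) ≠ 0) (h1 : Z1 K ≤ E) (hs : s ∈ E)
    (hs' : s.t ≠ 0) (h : ∀ x ∈ E, (∀ y ∈ E, ⁅x, y⁆ = 1) → x.t = 0) : nr ι E ≤ nr ι (Z1 K) :=
  fun _ hg => nr_rc i 0 hg hg nr_bot fun _ => ⟨fun hx => ⟨h1 hx, by simp, fun y _ =>
    comm_symm (mem_bot.2 (comm_Z0 y hx))⟩, fun ⟨a, _, b⟩ => mem_Z1_of h2 hs' (b s hs) (h _ a b)⟩

theorem nr_Q (i : Function.Injective ι) (h2 : (2 : K) ≠ 0) : nr ι (Qm μ) ≤ nr ι (Z1 K) :=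
  nr_Z1 i h2 (Z1_le.trans Z2_le_Q) (s := ⟨1, 0, 0, μ⟩) (by simp) one_ne_zero fun x _ h => by
    simpa [comm_eq, h2] using h ⟨0, 0, 1, 0⟩ (by simp)

theorem coQ (i : Function.Injective ι) (h2 : (2 : K) ≠ 0) : Co ι (Qm μ) (cQ μ) :=
  ⟨fun x hx y hy => by simp_all [cQ]; field_simp; ring,
    fun v => ⟨⟨v.2, 0, v.1 + μ * v.2 ^ 2 / 2, μ * v.2⟩, rfl, by simp [cQ]⟩,
    fun g hg x hx y _ e h => by
      obtain ⟨a, b⟩ := Prod.mk_eq_zero.1 h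
      have := e.mem i (nr_Q i h2 hg) (by simp_all)
      simp_all [cQ]⟩

theorem To.v (T : To ι μ g l) (i : Function.Injective ι) (h2 : (2 : K) ≠ 0) : g ∈ nr ι (V1 K) :=
  nr_rc i 0 T.top (mem_nr_of T.top le_top fun x hx y _ e => (T.b x hx y e).1) nr_bot fun x =>
    ⟨fun hx => ⟨trivial, by simp, fun y hy => comm_V hx hy.1⟩, fun ⟨_, _, b⟩ => by
      simpa [comm_eq, h2] using b ⟨0, 0, 1, 0⟩ (by simp)⟩

theorem To.act (T : To ι μ g l) (i : Function.Injective ι) (h2 : (2 : K) ≠ 0) (e : Cj ι g x y) :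
    l * y.t = x.t ∧ y.c - μ * y.t = l ^ 2 * (x.c - μ * x.t) := by
  obtain ⟨q, hq, e1⟩ := nr_cj T.q (x := ⟨1, 0, 0, μ⟩) (by simp)
  obtain ⟨r, hr, e2⟩ := nr_cj T.q (x := ⟨x.t, 0, 0, μ * x.t⟩) (by simp)
  have e3 := e2.inv.mul e
  have h1 := e3.mem i (T.v i h2) (by simp)
  have h3 := (T.b _ (comm_Z2 _ _) _ (e1.comm e3)).2
  have h4 := T.t _ (by simp) _ e1
  have h5 := T.t _ (by simp) _ e2
  simp only [mem_V1, mem_Qm, comm_b, mul_t, mul_c, inv_t, inv_c] at h1 hq hr h3 h4 h5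
  exact ⟨by linear_combination h5 + l * h1, by
    linear_combination l * h3 + (r.c - y.c) * h4 + hr + (l * q.c - μ) * h1⟩

variable [hp : Fact p.Prime] (F : Cf p ι)
include F

theorem Cf.cu : Cu p (au F.inj (V1 K) cV ⊤) (au F.inj (V1 K) cV ι.range) uV :=
  ⟨(coV F.inj).syl F (fn_of fun t x _ => Z2_le (comm_Z2 t x)), fun _ =>
    ⟨fun ⟨_, ⟨w, rfl⟩, a⟩ => ⟨_, (coV F.inj).uniq a (acV F.inj w)⟩,
      fun ⟨s, e⟩ => ⟨_, ⟨_, rfl⟩, e ▸ acV F.inj ⟨s, 0, 0, 0⟩⟩⟩, fun _ _ => rfl⟩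

variable (h2 : (2 : K) ≠ 0)
include h2

theorem Cf.shQ (μ : K) : Sh p (au F.inj (Qm μ) (cQ μ) ⊤) (au F.inj (Qm μ) (cQ μ) ι.range) uS :=
  ⟨(coQ F.inj h2).syl F (fn_of fun t x _ => Z2_le_Q (comm_Z2 t x)), fun _ =>
    ⟨fun ⟨_, ⟨w, rfl⟩, a⟩ => ⟨_, (coQ F.inj h2).uniq a (acQ F.inj μ w)⟩,
      fun ⟨s, e⟩ => ⟨_, ⟨⟨0, 0, 0, -s⟩, rfl⟩, by simpa [e] using acQ F.inj μ ⟨0, 0, 0, -s⟩⟩⟩, fun _ _ _ => rfl⟩

theorem Es.cases (h : Es p ι E) :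
    E = V1 K ∨ (∃ s ∈ E, s.t ≠ 0 ∧ ∀ x ∈ E, ⁅x, s⁆ = 1) ∨ ∃ μ, E = Qm μ := by
  by_cases hV : E ≤ V1 K
  · exact Or.inl (le_antisymm hV fun t ht => h.cent F fun x hx => comm_V ht (hV hx))
  refine Or.inr (or_iff_not_imp_left.2 fun h0 => ?_)
  obtain ⟨s, hs, hs'⟩ := SetLike.not_le_iff_exists.1 hV
  have h1 : Z1 K ≤ E := fun t ht => h.cent F fun x _ => comm_symm (mem_bot.2 (comm_Z0 x ht))
  have h3 := nr_Z1 F.inj h2 h1 hs hs' fun x hx e => by_contra fun e' =>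
    h0 ⟨x, hx, e', fun y hy => comm_symm (mem_bot.2 (e y hy))⟩
  have h4 : ∀ t : Un K, (∀ x ∈ E, ⁅t, x⁆ ∈ Z1 K) → t ∈ E := fun t ht =>
    h.chain F h3 (fun _ _ => nr_bot) (fun _ _ => nr_bot)
      (self_ch h1 bot_le le_rfl ht (fun _ => comm_Z0 t) (by simp) (by simp))
  have h5 : Z2 K ≤ E := fun t ht => h4 t fun x _ => comm_symm (comm_Z1 x ht)
  by_cases hc : E ≤ Qm (s.c / s.t)
  · exact ⟨_, le_antisymm hc fun t ht => h4 t fun x hx => by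
      have := hc hx
      simp_all; ring⟩
  obtain ⟨x, hx, hx'⟩ := SetLike.not_le_iff_exists.1 hc
  refine (Se.not F ⟨h5, Z1_le, bot_le, fun t x _ => comm_Z2 t x, fun t _ => comm_Z1 t,
    fun t _ => comm_Z0 t, fun _ _ h => by simp_all⟩ h (fun g hg => nr_rc F.inj 0 hg hg (h3 hg)
      fun y => ⟨fun hy => ⟨h5 hy, by simp, fun z _ => comm_symm (comm_Z1 z hy)⟩, fun ⟨_, _, b⟩ => ?_⟩)
    h3 fun _ _ => nr_bot).elim
  have b1 := (b s hs).2.1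
  have b2 := (b x hx).2.1
  have b3 : y.t = 0 := by_contra fun e => hx' (by
    have : s.t ≠ 0 := hs'
    rw [mem_Qm]; field_simp
    exact mul_left_cancel₀ e (by simp only [comm_b] at b1 b2; linear_combination s.t * b2 - x.t * b1))
  simp_all

theorem To.eq (T : To ι μ g (-1)) (T' : To ι ν k (-1)) : μ = ν := by
  have key : ∀ x, ∃ y z, Cj ι g x y ∧ Cj ι k z y ∧ Cj ι (k⁻¹ * g) x z := fun x =>
    let ⟨y, _, e⟩ := nr_cj T.top (mem_top x)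
    let ⟨z, _, e'⟩ := nr_cj' T'.top (mem_top y)
    ⟨y, z, e, e', e'.symm.trans e⟩
  have ht := seT.inner F (g := k⁻¹ * g) (mem_ch le_top Z2_le Z1_le (fun x _ => ?_)
    (fun x hx => ?_) (fun x hx => ?_) fun x hx => (T'.z x hx).symm.trans (T.z x hx))
  · obtain ⟨t, ht⟩ := ht
    obtain ⟨y, z, e1, e2, e3⟩ := key ⟨1, 0, 0, 0⟩
    obtain rfl := e3.uniq F.inj (ht _ trivial)
    have a := T.act F.inj h2 e1
    have b := T'.act F.inj h2 e2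
    simp only [mul_t, mul_c, inv_t, inv_c] at a b
    exact mul_left_cancel₀ h2 (by linear_combination a.2 - b.2 - μ * a.1 + ν * a.1)
  all_goals
    obtain ⟨y, z, e1, e2, e3⟩ := key x
    have a := T.act F.inj h2 e1
    have b := T'.act F.inj h2 e2
    refine ⟨z, e3, ?_⟩
  · simp only [mem_V1, mul_t, inv_t]; linear_combination a.1 - b.1
  · simp only [mem_V1, mem_Z2, mul_t, inv_t, mul_c, inv_c] at *
    constructor <;> grind
  · have c := T.b x hx y e1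
    have hz : z ∈ Z2 K := by simp only [mem_Z2] at *; grind
    have d := T'.b z hz y e2
    simp only [mem_Z1, mem_Z2, mul_t, inv_t, mul_c, inv_c, mul_b, inv_b] at *
    grind

variable [Finite K] [CharP K p]

omit [CharP K p] in
theorem Es.no_pearl (h : Es p ι E) (hs : s ∈ E) (hs' : s.t ≠ 0) (hc : ∀ x ∈ E, ⁅x, s⁆ = 1)
    (h0 : N ≠ ⊥) (hN : N ≤ E) (n1 : nr ι E ≤ nr ι N) (n2 : nr ι ⊤ ≤ nr ι N) : False := by
  classical
  have hZ : ∀ x ∈ E, x.t = 0 → x ∈ Z1 K := fun x hx => mem_Z1_of h2 hs' (hc x hx)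
  have h1 : Z1 K ≤ E := fun t ht => h.cent F fun x _ => comm_symm (mem_bot.2 (comm_Z0 x ht))
  have h3 : N ≤ Z1 K := fun n hn => hZ n (hN hn) (by
    have := hZ _ (hN (mul_mem ((Cj.self ⟨0, 0, 0, 1⟩ n).mem F.inj (n2 (self_nr fun _ _ => trivial)) hn)
      (inv_mem hn))) (by simp)
    simpa [← commutatorElement_def] using this)
  have hm : ∀ a b : E, a * b = b * a := fun a b => Subtype.ext
    (commutatorElement_eq_one_iff_mul_comm.1 (comm_of hs' (hc a a.2) (hc b b.2)))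
  let _ : CommGroup E := { (inferInstance : Group E) with mul_comm := hm }
  let c : Un K → Additive E := fun x => if h : x ∈ E then .ofMul ⟨x, h⟩ else 0
  have hc' : ∀ x (hx : x ∈ E), c x = .ofMul ⟨x, hx⟩ := fun x hx => dif_pos hx
  have e0 : ∀ x ∈ E, c x = 0 ↔ x = 1 := fun x hx => by
    rw [hc' x hx, ofMul_eq_zero]; exact Subtype.ext_iff
  have o : Co ι E c := ⟨fun x hx y hy => by rw [hc' x hx, hc' y hy, hc' _ (mul_mem hx hy)]; rfl,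
    fun m => ⟨_, m.toMul.2, hc' _ _⟩, fun g _ x hx y hy e h => by
      obtain rfl := (e0 x hx).1 h
      exact (e0 y hy).2 (e.uniq F.inj (by simp [Cj]))⟩
  let Y : AddSubgroup (Additive E) := toAddSubgroup ((Z1 K).subgroupOf E)
  have hY : ∀ x ∈ E, c x ∈ Y ↔ x ∈ Z1 K := fun x hx => by rw [hc' x hx]; rfl
  have e1 : ∀ w φ, Ac ι E c (ι w) φ → ∀ x ∈ E, ⁅w, x⁆ ∈ E ∧ φ • c x - c x = c ⁅w, x⁆ :=
    fun w φ a x hx => by
      have := (Cj.self w x).mem F.inj a.1 hx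
      exact ⟨mul_mem this (inv_mem hx), by rw [a.2 x hx _ this (Cj.self w x), ← o.div this hx]; rfl⟩
  obtain ⟨n, hn, hn'⟩ := SetLike.not_le_iff_exists.1 (mt le_bot_iff.1 h0)
  obtain ⟨m, hm⟩ := IsPGroup.iff_card.1 (F.pg.to_subgroup E)
  have h4 := o.nr_le (i := F.inj) h1 hY fun φ hφ => by_contra fun e => hn' ((e0 n (hN hn)).1 (ti
    (R := ⊥) ⟨m, fun x => by rw [← hm]; exact card_nsmul_eq_zero'⟩ (o.syl F h.2.1) ?_ bot_le
    (fun g _ => mem_sb fun x hx => by rw [AddSubgroup.mem_bot.1 hx, smul_zero]; exact zero_mem _)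
    (fun x hx y hy => ?_) hφ e (x := c n) ⟨(hY n (hN hn)).2 (h3 hn), ?_⟩))
  · have := hZ ⟨0, 0, 1, 0⟩ (h.chain F h4 (fun _ _ => nr_bot) (fun _ _ => nr_bot) (self_ch h1 bot_le
      le_rfl (fun x _ => comm_symm (comm_Z1 x (by simp))) (fun _ => comm_Z0 _) (by simp) (by simp))) rfl
    simp at this
  · rintro ψ ⟨_, ⟨w, rfl⟩, a⟩
    refine ⟨fun m => ?_, fun m hm => ?_, fun x hx => by rw [AddSubgroup.mem_bot.1 hx, smul_zero]⟩
    all_goals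
      obtain ⟨x, hx, rfl⟩ := o.surj m
      obtain ⟨b, b'⟩ := e1 w ψ a x hx
    · rw [b', hY _ b]; exact hZ _ b comm_t
    · rw [b', comm_Z0 w ((hY x hx).1 hm), o.one]; exact zero_mem _
  · obtain ⟨x, hx', rfl⟩ := o.surj x
    obtain ⟨y, hy', rfl⟩ := o.surj y
    have t0 : x.t ≠ 0 := fun e => hx ((hY x hx').2 (hZ x hx' e))
    obtain ⟨ψ, a⟩ := o.exists_ac (self_nr (ι := ι) (t := ⟨0, 0, -y.a / (2 * x.t), 0⟩) fun x _ =>
      h1 (comm_symm (comm_Z1 x (by simp))))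
    refine ⟨ψ, ⟨_, ⟨_, rfl⟩, a⟩, ?_⟩
    have := (hY y hy').1 hy
    rw [(e1 _ ψ a x hx').2, AddSubgroup.mem_bot, sub_eq_zero]
    congr 1
    ext <;> simp_all
    field_simp
  · obtain ⟨g, -, a⟩ := hφ
    obtain ⟨y, hy, e⟩ := nr_cj (n1 a.1) hn
    show φ • c n ∈ Y
    rw [a.2 n (hN hn) y (hN hy) e, hY y (hN hy)]
    exact h3 hy

omit [Finite K] [CharP K p] in
theorem Es.not_ax (h : Es p ι (Qm μ)) : ¬ au F.inj (Qm μ) (cQ μ) ⊤ ≤ sb _ (ax K) := fun e =>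
  seQ.not F h ((coQ F.inj h2).nr_le Z2_le_Q (fun x hx => by simp_all [mem_ax, cQ]) e)
    (nr_Q F.inj h2) fun _ _ => nr_bot

theorem Es.torus (h : Es p ι (Qm μ)) (hl : l ≠ 0) : ∃ g, To ι μ g l := by
  obtain ⟨ψ, h3, h4⟩ := SetLike.not_le_iff_exists.1 (h.not_ax F h2)
  obtain ⟨φ, a⟩ := (F.shQ h2 μ).exists_ax h3 h4
  obtain ⟨ψ, ⟨⟨g, hg, b⟩, -⟩, e⟩ := (F.shQ h2 μ).sl2 (L := au F.inj (Qm μ) (cQ μ) 𝐂((Z1 K).map ι))
    a (fun ψ ⟨g, _, b⟩ s => ⟨_, conj_mem (norm_cent le_rfl (nr_Q F.inj h2 b.1)) (cent_of_cj fun x hx => by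
      simpa [mul_inv_eq_one.1 (comm_Z0 _ hx)] using Cj.self (ι := ι) ⟨0, 0, 0, -s⟩ x), by
      simpa using (b.mul (acQ F.inj μ ⟨0, 0, 0, -s⟩)).mul b.inv⟩)
    (α := l) (β := 0) (γ := 0) (δ := l⁻¹) (by simp [hl])
  have e1 : ∀ x ∈ Qm μ, ∀ y ∈ Qm μ, Cj ι g x y → l * y.t = x.t ∧ (x ∈ Z2 K → y ∈ Z2 K ∧ y.b = l * x.b) :=
    fun x hx y hy c => by
      have := b.2 x hx y hy c
      rw [cQ, e.apply, cQ, Prod.mk.injEq] at this
      refine ⟨by rw [← this.2]; field_simp; simp, fun hz => ?_⟩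
      have t0 : y.t = 0 := by simpa [hz.1] using this.2.symm
      exact ⟨⟨t0, by simpa [t0] using hy⟩, by simpa [t0, hz.1] using this.1.symm⟩
  obtain ⟨k, hk, e2⟩ := seQ.ext F b.1 (mem_nr_of b.1 Z2_le_Q fun x hx y hy c =>
    ((e1 x (Z2_le_Q hx) y hy c).2 hx).1) (cent_le_norm _ hg) nr_bot
  have e3 : ∀ x ∈ Qm μ, ∀ y, Cj ι k x y → y ∈ Qm μ ∧ Cj ι g x y := fun x hx y c =>
    let ⟨z, hz, c'⟩ := nr_cj b.1 hx
    (e2 x hx z c').uniq F.inj c ▸ ⟨hz, c'⟩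
  exact ⟨k, hk.2, hk.1, fun x hx => e2 x (Z2_le_Q (Z1_le hx)) x (.of_cent hg hx),
    fun x hx y c => let ⟨d, d'⟩ := e3 x (Z2_le_Q hx) y c; (e1 x (Z2_le_Q hx) y d d').2 hx,
    fun x hx y c => let ⟨d, d'⟩ := e3 x hx y c; (e1 x hx y d d').1⟩

theorem Es.not_both (h : Es p ι (Qm μ)) (h' : Es p ι (V1 K)) (h0 : N ≠ ⊥)
    (hN : ∀ E, Es p ι E → N ≤ E ∧ nr ι E ≤ nr ι N) : False := by
  have o := coV F.inj
  have h1 : N ≤ Z2 K := fun n hn => by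
    have := (hN _ h).1 hn
    have := (hN _ h').1 hn
    simp_all
  have h3 : N ≤ Z1 K := fun n hn => by_contra fun e => h.not_ax F h2 fun ψ ⟨g, hg, a⟩ => by
    obtain ⟨y, hy, c⟩ := nr_cj ((hN _ h).2 a.1) hn
    have := a.2 n ((hN _ h).1 hn) y ((hN _ h).1 hy) c
    have h4 := h1 hn
    refine (F.shQ h2 μ).ti ⟨g, hg, a⟩ (x := n.b) (by simp_all) ?_
    rw [show (n.b, 0) = cQ μ n by simp [cQ, h4.1], this]
    exact (h1 hy).1
  let N' : AddSubgroup (K × K × K) :=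
    { carrier := {v | ∃ x ∈ N, cV x = v}
      zero_mem' := ⟨1, one_mem _, rfl⟩
      add_mem' := by
        rintro _ _ ⟨x, hx, rfl⟩ ⟨y, hy, rfl⟩
        exact ⟨_, mul_mem hx hy, o.add x (h1 hx).1 y (h1 hy).1⟩
      neg_mem' := by
        rintro _ ⟨x, hx, rfl⟩
        exact ⟨_, inv_mem hx, by simpa [o.one] using o.div (one_mem _) (h1 hx).1⟩ }
  have h4 := F.cu.le_sb h2 (fun l hl => ?_) (N := N') (fun e => h0 (le_bot_iff.1 fun x hx => ?_))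
    (by rintro _ ⟨x, hx, rfl⟩; exact mem_z1.2 (h3 hx).2) fun ψ ⟨g, _, a⟩ => mem_sb ?_
  · exact seV.not F h' (o.nr_le Z2_le (fun x hx => by simp_all [mem_z2, cV]) (h4.trans inf_le_right))
      (o.nr_le (Z1_le.trans Z2_le) (fun x hx => by simp_all [mem_z1, cV]) (h4.trans inf_le_left))
      fun _ _ => nr_bot
  · obtain ⟨g, T⟩ := h.torus F h2 hl
    obtain ⟨ψ, a⟩ := o.exists_ac (T.v F.inj h2)
    refine ⟨ψ, ⟨g, trivial, a⟩, fun v hv => ?_, fun v hv => ?_, fun v => ?_⟩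
    all_goals obtain ⟨x, hx, rfl⟩ := o.surj v
    · exact a.2 x hx x hx (T.z x ⟨hx, mem_z1.1 hv⟩)
    all_goals
      obtain ⟨y, hy, e⟩ := nr_cj a.1 hx
      rw [a.2 x hx y hy e]
    · exact (T.b x ⟨hx, hv⟩ y e).2
    · have := (T.act F.inj h2 e).2
      simp_all [cV]
  · have := (e.le ⟨x, hx, rfl⟩ : cV x = 0)
    have := h1 hx
    simp_all [cV, eq_one]
  · rintro _ ⟨x, hx, rfl⟩
    obtain ⟨y, hy, e⟩ := nr_cj ((hN _ h').2 a.1) hx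
    exact ⟨y, hy, (a.2 x (h1 hx).1 y (h1 hy).1 e).symm⟩

theorem Cf.odd (hc : (groupFusionSystem ι.range).core ≠ ⊥) :
    (groupFusionSystem ι.range).IsRealizable p := by
  obtain ⟨N, h0, h1, h3⟩ := F.exists_core hc
  have key : ∀ E, Es p ι E → E = V1 K ∨ ∃ μ, E = Qm μ := fun E h =>
    (h.cases F h2).imp_right fun e => e.resolve_left fun ⟨s, a, b, c⟩ =>
      h.no_pearl F h2 a b c h0 (h3 E h).1 (h3 E h).2 h1
  refine F.real_of_uniq fun E E' h h' => ?_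
  rcases key E h with rfl | ⟨μ, rfl⟩ <;> rcases key E' h' with rfl | ⟨ν, rfl⟩
  · rfl
  · exact (h'.not_both F h2 h h0 h3).elim
  · exact (h.not_both F h2 h' h0 h3).elim
  · obtain ⟨g, T⟩ := h.torus F h2 (neg_ne_zero.2 one_ne_zero)
    obtain ⟨k, T'⟩ := h'.torus F h2 (neg_ne_zero.2 one_ne_zero)
    rw [T.eq F h2 T']

theorem sxodd_eq_defs : True := by
  have := @cV.eq_1.{0}
  have := @cQ.eq_1.{0}
  have := @uV.eq_1.{0}
  have := @uS.eq_1.{0}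
  trivial

end H93.SX
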