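import Mathlib
import Cfsg.Agent.Base
import Cfsg.Agent.Lib.SpX.Ext
import Cfsg.Agent.Lib.SpX.Odd
import Cfsg.Agent.Lib.GL.Unitri

/-!
Extensions of subgroups of `GL₃(K)`, `K` of order two or four, whose Sylow `2`-subgroup is that of
`Sp₄(K)`.
-/

set_option autoImplicit false

namespace H93.SX

open Subgroup Matrix Un

universe v

variable {K : Type v} [Field K] {g : GL (Fin 3) K} {x y x' y' : Un K}

/-- The projection to the unitriangular group. -/
def pu : Un K →* GL (Fin 3) K := MonoidHom.toHomUnits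
  { toFun x := !![1, x.t, x.b; 0, 1, x.c; 0, 0, 1]
    map_one' := by ext i j; fin_cases i <;> fin_cases j <;> simp
    map_mul' x y := by ext i j; fin_cases i <;> fin_cases j <;> simp [add_comm] <;> ring }

theorem pu_val (x : Un K) : (pu x).1 = !![1, x.t, x.b; 0, 1, x.c; 0, 0, 1] := rfl

theorem pu_eq : pu x = pu y ↔ x.t = y.t ∧ x.b = y.b ∧ x.c = y.c :=
  ⟨fun h => ⟨congrArg (·.1 0 1) h, congrArg (·.1 0 2) h, congrArg (·.1 1 2) h⟩, fun h =>
    Units.ext (by rw [pu_val, pu_val, h.1, h.2.1, h.2.2])⟩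

theorem mem_ker_pu : x ∈ pu.ker ↔ x ∈ Z1 K := by
  rw [MonoidHom.mem_ker, ← map_one pu, pu_eq]; rfl

theorem range_pu : (pu (K := K)).range = H10.unitriGL (Fin 3) K := by
  ext g
  rw [H10.mem_unitriGL]
  refine ⟨?_, fun h => ⟨⟨g.1 0 1, 0, g.1 0 2, g.1 1 2⟩, Units.ext ?_⟩⟩
  · rintro ⟨x, rfl⟩
    exact ⟨fun i j => by fin_cases i <;> fin_cases j <;> simp [pu_val],
      fun i => by fin_cases i <;> simp [pu_val]⟩
  · ext i j
    fin_cases i <;> fin_cases j <;> simp [pu_val, h.2] <;> exact (h.1 _ _ (by decide)).symm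

/-- Scalar multiplication on the kernel. -/
def sc : Kˣ →* MulAut (pu (K := K)).ker := MonoidHom.mk' (fun d =>
  { toFun x := ⟨⟨0, d * x.1.a, 0, 0⟩, mem_ker_pu.2 (by simp)⟩
    invFun x := ⟨⟨0, d⁻¹ * x.1.a, 0, 0⟩, mem_ker_pu.2 (by simp)⟩
    left_inv x := Subtype.ext (by have := mem_ker_pu.1 x.2; ext <;> simp_all)
    right_inv x := Subtype.ext (by have := mem_ker_pu.1 x.2; ext <;> simp_all)
    map_mul' x y := Subtype.ext (by have := mem_ker_pu.1 x.2; ext <;> simp_all [mul_add]) })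
  fun d e => by ext x <;> simp [mul_assoc]

/-- The twisting character. -/
def chi : GL (Fin 3) K →* MulAut (pu (K := K)).ker := sc.comp (invMonoidHom.comp GeneralLinearGroup.det)

theorem chi_val (g : GL (Fin 3) K) (a : (pu (K := K)).ker) :
    (chi g a).1 = ⟨0, g.1.det⁻¹ * a.1.a, 0, 0⟩ := by
  simp [chi, sc]

theorem chi_pu (y : Un K) : chi (pu y) = 1 := by
  have : GeneralLinearGroup.det (pu y) = 1 := Units.ext (by simp [pu_val, det_fin_three])
  simp [chi, this]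

theorem tri (e : g * pu x * g⁻¹ = pu y) (h : x.t * x.c ≠ 0 ∨ y.t * y.c ≠ 0) :
    g.1 1 0 = 0 ∧ g.1 2 0 = 0 ∧ g.1 2 1 = 0 := by
  have e' := congrArg Units.val (mul_inv_eq_iff_eq_mul.1 e)
  have e1 := congrFun (congrFun e' 0) 0
  have e2 := congrFun (congrFun e' 1) 0
  have e3 := congrFun (congrFun e' 1) 1
  have e4 := congrFun (congrFun e' 2) 1
  have e5 := congrFun (congrFun e' 2) 2
  simp only [Units.val_mul, pu_val, Matrix.mul_apply, Fin.sum_univ_three] at e1 e2 e3 e4 e5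
  simp at e1 e2 e3 e4 e5
  grind

theorem tri' (e : g * pu x * g⁻¹ = pu y) (e' : g * pu x' * g⁻¹ = pu y')
    (h : x.t * x'.c ≠ 0 ∨ y.t * y'.c ≠ 0) : g.1 1 0 = 0 ∧ g.1 2 0 = 0 ∧ g.1 2 1 = 0 := by
  by_contra h0
  have h1 := mt (tri e) h0
  have h2 := mt (tri e') h0
  have h3 := mt (tri (x := x * x') (y := y * y') (by rw [map_mul, map_mul, ← e, ← e']; group)) h0
  simp only [mul_t, mul_c] at h3
  grind

variable [CharP K 2] (hK : ∀ x : K, x ^ 4 = x)
include hK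

theorem tw (g : GL (Fin 3) K) : Tw pu chi g := by
  have h2 : (2 : K) = 0 := two0
  by_cases h : g.1 1 0 = 0 ∧ g.1 2 0 = 0 ∧ g.1 2 1 = 0
  · have d : g.1.det = g.1 0 0 * g.1 1 1 * g.1 2 2 := by simp [det_fin_three, h]
    have d0 := g.det_ne_zero
    simp only [d, ne_eq, mul_eq_zero, not_or] at d0
    obtain ⟨⟨d1, d2⟩, d3⟩ := d0
    have d4 : g.1 0 0 ^ 3 = 1 := mul_left_cancel₀ d1 (by linear_combination hK (g.1 0 0))
    let w : Un K := ⟨g.1 0 1 / g.1 1 1, 0, g.1 0 2 / g.1 2 2, g.1 1 2 / g.1 2 2⟩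
    let τ : Un K → Un K := fun x => ⟨g.1 0 0 / g.1 1 1 * x.t, g.1.det⁻¹ * x.a,
      g.1 0 0 / g.1 2 2 * x.b, g.1 1 1 / g.1 2 2 * x.c⟩
    have m : ∀ x y, τ (x * y) = τ x * τ y := fun x y => by
      ext <;> simp only [τ, mul_t, mul_a, mul_b, mul_c, d, h2] <;> field_simp
      linear_combination (-x.t ^ 2 * y.c) * d4
    refine ⟨fun x => w * τ x * w⁻¹, fun x y _ _ => by simp [m, mul_assoc], fun x _ => ?_, fun a => ?_⟩
    · have e : (pu w⁻¹ * g).1 = !![g.1 0 0, 0, 0; 0, g.1 1 1, 0; 0, 0, g.1 2 2] := by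
        rw [Units.val_mul, pu_val]
        ext i j
        fin_cases i <;> fin_cases j <;>
          simp [Matrix.mul_apply, Fin.sum_univ_three, w, h, d2, d3]
        field_simp; ring
      have e' : pu (τ x) * (pu w⁻¹ * g) = pu w⁻¹ * g * pu x := Units.ext (by
        rw [Units.val_mul, Units.val_mul (_ * _), e]
        ext i j
        fin_cases i <;> fin_cases j <;> simp [pu_val, τ] <;> field_simp)
      rw [map_mul, map_mul, eq_mul_inv_iff_mul_eq, mul_assoc, mul_assoc, e', map_inv]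
      group
    · have := mem_ker_pu.1 a.2
      have e : τ a = ⟨0, g.1.det⁻¹ * a.1.a, 0, 0⟩ := by simp [τ, this.1, this.2.1, this.2.2]
      simp only [chi_val, e]
      exact mul_inv_eq_one.1 (comm_Z0 w (by simp))
  · refine ⟨fun x => ⟨(g * pu x * g⁻¹).1 0 1, g.1.det⁻¹ * x.a, (g * pu x * g⁻¹).1 0 2,
      (g * pu x * g⁻¹).1 1 2⟩, ?_, ?_, fun a => ?_⟩
    · rintro x x' ⟨y, e⟩ ⟨y', e'⟩
      have h1 := mt (tri' e.symm e'.symm) h
      beta_reduce
      rw [show g * pu (x * x') * g⁻¹ = pu (y * y') by rw [map_mul, map_mul, e, e']; group, ← e, ← e']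
      ext <;> simp [pu_val, h2] <;> grind
    · rintro x ⟨y, e⟩
      simp [← e, pu_eq, pu_val]
    · have := mem_ker_pu.1 a.2
      simp only [chi_val, MonoidHom.mem_ker.1 a.2]
      simp

/-- `g` multiplies the long root subgroup by `d`. -/
def Kz {Γ : Type*} [Group Γ] (ι : Un K →* Γ) (g : Γ) (d : K) : Prop :=
  ∀ a, Cj ι g ⟨0, a, 0, 0⟩ ⟨0, d * a, 0, 0⟩

theorem exists_model [Finite K] (Δ : Subgroup Kˣ) : ∃ (G : Type v) (_ : Group G) (_ : Finite G)
    (ψ : Un K →* G), Function.Injective ψ ∧ (∃ T : Sylow 2 G, (T : Subgroup G) = ψ.range) ∧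
    (∀ g, g ∈ nr ψ (Z1 K)) ∧ (∀ d : Kˣ, (∃ g, Kz ψ g d) ↔ d ∈ Δ) ∧
    ¬ nr ψ (V1 K) ≤ nr ψ (Z2 K) ∧ ¬ nr ψ (Qm 0) ≤ nr ψ (Z2 K) := by
  have h2 : (2 : K) = 0 := two0
  have odd : ¬ 2 ∣ (pu (K := K)).range.index := range_pu (K := K) ▸ H10.not_dvd_index_unitriGL 2
  obtain ⟨Γ, _, _, ξ, ψ, a1, a2, a3, a4, a5⟩ := exists_ext_tw (π := pu) (fun x hx => mem_center_iff.2
    fun y => commutatorElement_eq_one_iff_mul_comm.1 (comm_Z0 y (mem_ker_pu.1 hx))) chi_pu (tw hK)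
    fun a => by
      obtain ⟨m, hm⟩ := Nat.not_even_iff_odd.1 (mt even_iff_two_dvd.1 odd)
      have := mem_ker_pu.1 a.2
      rw [hm, pow_succ, pow_mul, show a ^ 2 = 1 from Subtype.ext (by
        rw [sq]; ext <;> simp_all [← two_mul]), one_pow, one_mul]
  let G := (Δ.comap GeneralLinearGroup.det).comap ξ
  have hG : ∀ x, ψ x ∈ G := fun x => by
    show _ ∈ Δ
    rw [a2, show GeneralLinearGroup.det (pu x) = 1 from Units.ext (by simp [pu_val, det_fin_three])]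
    exact one_mem _
  have cj : ∀ (g : G) x y, Cj (ψ.codRestrict G hG) g x y ↔ Cj ψ g x y := fun g x y => Subtype.ext_iff
  have i : Function.Injective (ψ.codRestrict G hG) := fun x y e => a3 (congrArg Subtype.val e)
  have kz : ∀ g : G, Kz (ψ.codRestrict G hG) g (ξ g).1.det⁻¹ := fun g a => (cj _ _ _).2
    ((a5 g ⟨⟨0, a, 0, 0⟩, mem_ker_pu.2 (by simp)⟩).trans (by rw [chi_val]))
  have lift : ∀ m : GL (Fin 3) K, m.1.det = 1 → ∀ s : Un K → Un K, ∀ X : Subgroup (Un K),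
      (∀ x ∈ X, m * pu x = pu (s x) * m ∧ ∀ y, pu y = pu (s x) → y ∈ X) → ∀ x ∈ Z2 K, x ∈ X →
      (∀ y, pu y = pu (s x) → y ∉ Z2 K) → ¬ nr (ψ.codRestrict G hG) X ≤ nr (ψ.codRestrict G hG) (Z2 K) := by
    intro m hm s X h1 x hx hx' h3 h4
    obtain ⟨z, rfl⟩ := a1 m
    have hz : z ∈ G := by
      show _ ∈ Δ
      rw [show GeneralLinearGroup.det (ξ z) = 1 from Units.ext hm]; exact one_mem _
    have k : ∀ x ∈ X, ∃ y, Cj (ψ.codRestrict G hG) ⟨z, hz⟩ x y ∧ pu y = pu (s x) := fun x hx => by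
      obtain ⟨a, ha⟩ := a4 (z * ψ x * z⁻¹ * (ψ (s x))⁻¹) (by simp [a2, (h1 x hx).1])
      exact ⟨a * s x, (cj _ _ _).2 (by rw [Cj, map_mul, ← ha]; simp),
        by rw [map_mul, MonoidHom.mem_ker.1 a.2, one_mul]⟩
    obtain ⟨y, e, e'⟩ := k x hx'
    exact h3 y e' (e.mem i (h4 (mem_nr fun x hx => let ⟨y, e, e'⟩ := k x hx; ⟨y, (h1 x hx).2 y e', e⟩)) hx)
  refine ⟨G, _, inferInstance, ψ.codRestrict G hG, i, ⟨IsPGroup.toSylow (((pg_un 2).of_surjective _
    (MonoidHom.rangeRestrict_surjective _))) fun e => odd ?_, rfl⟩, fun g => mem_nr fun x hx => ?_,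
    fun d => ⟨fun ⟨g, e⟩ => ?_, fun hd => ?_⟩, lift (GeneralLinearGroup.mkOfDetNeZero
      !![0, 1, 0; 1, 0, 0; 0, 0, 1] (by simp [det_fin_three])) (by simp [det_fin_three, CharTwo.neg_eq])
      (fun x => ⟨0, 0, x.c, x.b⟩) _ (fun x hx => ⟨Units.ext ?_, by simp +contextual [pu_eq]⟩)
      ⟨0, 0, 1, 0⟩ (by simp) (by simp) (by simp +contextual [pu_eq]), lift (GeneralLinearGroup.mkOfDetNeZero
      !![1, 0, 0; 0, 0, 1; 0, 1, 0] (by simp [det_fin_three])) (by simp [det_fin_three, CharTwo.neg_eq])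
      (fun x => ⟨x.b, 0, x.t, 0⟩) _ (fun x hx => ⟨Units.ext ?_, by simp +contextual [pu_eq]⟩)
      ⟨0, 0, 1, 0⟩ (by simp) (by simp) (by simp +contextual [pu_eq])⟩
  · rw [← index_comap_of_surjective _ a1]
    refine e.trans (dvd_trans ?_ (relIndex_dvd_index_of_le (K := G) ?_))
    · refine (congrArg index (Subgroup.ext fun g => ⟨?_, ?_⟩)).dvd
      · rintro ⟨x, rfl⟩
        exact ⟨x, (a2 x).symm⟩
      · rintro ⟨x, hx⟩
        obtain ⟨a, ha⟩ := a4 (g * (ψ x)⁻¹) (by simp [a2, hx])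
        exact ⟨a * x, Subtype.ext (by simp [← ha])⟩
    · rintro g ⟨x, hx⟩
      show _ ∈ Δ
      rw [← hx, ← a2]; exact hG x
  · obtain ⟨_, a, _, _⟩ := x
    obtain ⟨rfl, rfl, rfl⟩ := hx
    exact ⟨_, by simp, kz g a⟩
  · have := congrArg Un.a ((e 1).uniq i (kz g 1))
    rw [show d = (GeneralLinearGroup.det (ξ g))⁻¹ from Units.ext (by simpa using this)]
    exact inv_mem g.2
  · obtain ⟨z, hz⟩ := a1 (GeneralLinearGroup.mkOfDetNeZero (diagonal ![(d : K)⁻¹, 1, 1])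
      (by simp [Fin.prod_univ_three]))
    have e : (ξ z).1.det = (d : K)⁻¹ := by simp [hz, Fin.prod_univ_three]
    refine ⟨⟨z, show _ ∈ Δ from ?_⟩, by simpa [e] using kz ⟨z, _⟩⟩
    rw [show GeneralLinearGroup.det (ξ z) = d⁻¹ from Units.ext (by simpa using e)]
    exact inv_mem hd
  all_goals
    simp only [mem_V1, mem_Qm, zero_mul] at hx
    ext i j
    fin_cases i <;> fin_cases j <;> simp [pu_val, hx]

omit hK in
theorem sxmod_eq_defs : True := by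
  have := @pu.eq_1.{0}
  have := @sc.eq_1.{0}
  have := @chi.eq_1.{0}
  have := @Kz.eq_1.{0, 0}
  trivial

end H93.SX
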