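import Mathlib
import Cfsg.Agent.Base
import Cfsg.Agent.Lib.SpX.Cub

/-!
Groups acting on `K × K × K` in characteristic two: the invariant axis and an averaging lemma.
-/

set_option autoImplicit false

namespace H93.SX

open Subgroup
open H68 (SylowIn)

variable {K G : Type*} [Field K] [Group G] [DistribMulAction G (K × K × K)]
  {H H' U : Subgroup G} {u : K → G} {g h σ τ : G} {v : K × K × K}

variable (K) in
/-- The second coordinate line. -/
def y1 : AddSubgroup (K × K × K) := z2 K ⊓ (AddMonoidHom.fst K (K × K)).ker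

theorem mem_y1 : v ∈ y1 K ↔ v.2.2 = 0 ∧ v.1 = 0 := Iff.rfl

variable (K) in
/-- The last coordinate of the image of the plane. -/
def lc (g : G) : K × K →+ K where
  toFun w := (g • ((w.1, w.2, 0) : K × K × K)).2.2
  map_zero' := congrArg (fun v : K × K × K => v.2.2) (smul_zero g)
  map_add' a b := by rw [← Prod.snd_add, ← Prod.snd_add, ← smul_add]; simp

theorem lc_apply (g : G) (a b : K) : lc K g (a, b) = (g • ((a, b, 0) : K × K × K)).2.2 := rfl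

/-- `h'` acts as `h` on the first axis and on the quotient. -/
def Mtc (K : Type*) [Field K] [DistribMulAction G (K × K × K)] (h h' : G) : Prop :=
  (∀ v : K × K × K, (h' • v).2 = (h • v).2) ∧ ∀ v ∈ z1 K, h' • v = h • v

theorem Mtc.sub (a : Mtc K h g) (v : K × K × K) : g • v - h • v ∈ z1 K := sub_eq_zero.2 (a.1 v)

theorem Mtc.mul (a : Mtc K h g) (b : Mtc K σ τ) (h1 : h ∈ sb G (z1 K)) (h2 : σ ∈ sb G (z1 K)) :
    Mtc K (h * σ) (g * τ) :=
  ⟨fun v => by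
    rw [mul_smul, mul_smul, a.1, ← sub_eq_zero, ← Prod.snd_sub, ← smul_sub]
    exact sb_mem h1 (b.sub v), fun v hv => by rw [mul_smul, mul_smul, b.2 v hv, a.2 _ (sb_mem h2 hv)]⟩

theorem le_of_not {G : Type*} [Group G] {A H M : Subgroup G} (h : ¬ A ≤ H)
    (h' : ∀ g ∈ A, g ∉ H → g ∈ M) : A ≤ M := by
  obtain ⟨a, ha, ha'⟩ := SetLike.not_le_iff_exists.1 h
  intro g hg
  by_cases hH : g ∈ H
  · simpa using mul_mem (h' _ (mul_mem hg ha) fun e => ha' (by simpa using mul_mem (inv_mem hH) e))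
      (inv_mem (h' a ha ha'))
  · exact h' g hg hH

variable [CharP K 2] [FaithfulSMul G (K × K × K)] [Finite G] [Finite K] (S : Cu 2 H U u)
include S

omit [FaithfulSMul G (K × K × K)] [Finite G] [Finite K] in
theorem Cu.act2 (t : K) (v : K × K × K) : u t • v = v + (t ^ 2 * v.2.2, t * v.2.2, 0) := by
  simp [S.act, Prod.ext_iff, show (2 : K) = 0 from CharP.cast_eq_zero K 2]

omit [FaithfulSMul G (K × K × K)] [Finite G] [Finite K] in
theorem Cu.le2 : U ≤ st G ⊥ (z2 K) := fun g hg => by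
  obtain ⟨s, rfl⟩ := (S.mem g).1 hg
  exact ⟨fun v => by simp [S.act2, mem_z2], fun v hv => by simp [S.act2, mem_z2.1 hv, Prod.ext_iff],
    fun v hv => by rw [AddSubgroup.mem_bot.1 hv, smul_zero]⟩

theorem Cu.dd_ax (hh : h ∈ H) (hn : h ∉ sb G (z2 K)) :
    dd h (z2 K) = z1 K ∨ dd h (z2 K) = y1 K := by
  have h2 : (2 : K) = 0 := CharP.cast_eq_zero K 2
  have key : ∀ σ ∈ H, (∀ τ ∈ H, τ ∉ sb G (z2 K) → Nat.card (lc K τ).ker ≤ Nat.card (lc K σ).ker) →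
      ∀ w s, s * lc K σ w ≠ 0 → lc K σ⁻¹ (s ^ 2 * lc K σ w, s * lc K σ w) ≠ 0 := by
    rintro σ hσ m ⟨a, b⟩ s h0 e
    have hρ := mul_mem (mul_mem (inv_mem hσ) (S.mem_H s)) hσ
    have e1 : ∀ a b : K, (σ⁻¹ * u s * σ) • ((a, b, 0) : K × K × K) =
        (a, b, 0) + σ⁻¹ • (s ^ 2 * lc K σ (a, b), s * lc K σ (a, b), 0) := fun a b => by
      rw [mul_smul, mul_smul, S.act2, smul_add, inv_smul_smul]; rfl
    have e2 : σ⁻¹ * u s * σ ∈ sb G (z2 K) := by_contra fun e2 => (m _ hρ e2).not_gt (card_lt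
      (fun ⟨a, b⟩ hw => by
        rw [AddMonoidHom.mem_ker] at hw ⊢
        rw [lc_apply, e1, hw]
        simp [Prod.mk_zero_zero]) (x := (a, b)) (by
          rw [AddMonoidHom.mem_ker, lc_apply, e1]; exact (zero_add _).trans e)
        fun e => h0 (by rw [AddMonoidHom.mem_ker.1 e, mul_zero]))
    have e3 := (S.le2 (conj_mem_of_sb hM3 S.syl S.le2 hσ (S.mem_U s) (mem_sb fun x hx => by
      rw [AddSubgroup.mem_bot.1 hx, smul_zero]; exact zero_mem _) e2)).2.1 (a, b, 0) rfl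
    rw [e1, add_sub_cancel_left, AddSubgroup.mem_bot, smul_eq_zero_iff_eq] at e3
    exact h0 (congrArg (·.2.1) e3)
  have up : ∀ τ ∈ H, τ ∉ sb G (z2 K) → Nat.card (lc K τ).ker ≤ Nat.card K := by
    obtain ⟨σ, ⟨hσ, hσ'⟩, m⟩ := H90.exists_max_of_bdd (s := fun σ => σ ∈ H ∧ σ ∉ sb G (z2 K))
      (f := fun σ => Nat.card (lc K σ).ker) (N := Nat.card (⊤ : AddSubgroup (K × K)))
      (fun σ _ => card_le le_top) ⟨h, hh, hn⟩
    obtain ⟨⟨a, b, c⟩, hv, hv'⟩ := exists_of_not_sb hσ'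
    obtain rfl : c = 0 := hv
    have h0 : lc K σ (a, b) ≠ 0 := hv'
    refine fun τ h1 h3 => (m τ ⟨h1, h3⟩).trans (Nat.card_le_card_of_injective (fun w =>
      (σ • ((w.1.1, w.1.2, 0) : K × K × K)).1 - (σ • ((w.1.1, w.1.2, 0) : K × K × K)).2.1 ^ 2 /
        lc K σ (a, b)) fun w w' e => ?_)
    obtain ⟨x, y, z, e1⟩ : ∃ x y z : K, σ • ((w.1.1 - w'.1.1, w.1.2 - w'.1.2, 0) : K × K × K) =
      (x, y, z) := ⟨_, _, _, rfl⟩
    have e2 := e1
    rw [show ((w.1.1 - w'.1.1, w.1.2 - w'.1.2, 0) : K × K × K) = (w.1.1, w.1.2, 0) - (w'.1.1, w'.1.2, 0)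
      by simp, smul_sub, Prod.ext_iff, Prod.ext_iff] at e2
    simp only [Prod.fst_sub, Prod.snd_sub] at e2 e
    obtain rfl : z = 0 := e2.2.2 ▸ sub_eq_zero.2 
      ((AddMonoidHom.mem_ker.1 w.2).trans (AddMonoidHom.mem_ker.1 w'.2).symm)
    have e3 : x = (y / lc K σ (a, b)) ^ 2 * lc K σ (a, b) := by
      rw [← e2.1, ← e2.2.1]; field_simp at e ⊢; grind
    have e4 : y = 0 := by_contra fun e4 => key σ hσ (fun τ h1 h3 => m τ ⟨h1, h3⟩) (a, b)
      (y / lc K σ (a, b)) (by simpa [h0]) (by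
        rw [← e3, div_mul_cancel₀ _ h0, lc_apply, ← e1, inv_smul_smul])
    rw [e3, e4, zero_div, sq, zero_mul, zero_mul, Prod.mk_zero_zero, Prod.mk_zero_zero,
      smul_eq_zero_iff_eq, Prod.mk_eq_zero, Prod.mk_eq_zero, sub_eq_zero, sub_eq_zero] at e1
    exact Subtype.ext (Prod.ext e1.1 e1.2.1)
  have lo : ∀ τ ∈ H, τ ∉ sb G (z2 K) → Nat.card K ≤ Nat.card (lc K τ).ker ∧ (lc K τ).range = ⊤ :=
    fun τ h1 h3 => by
      have e1 := (lc K τ).ker.card_mul_index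
      rw [AddSubgroup.index_ker, Nat.card_prod] at e1
      have e2 := (lc K τ).range.card_le_card_addGroup
      have e3 := up τ h1 h3
      have := Nat.card_pos (α := K)
      exact ⟨by nlinarith, AddSubgroup.eq_top_of_le_card _ (by nlinarith)⟩
  have hn' : h⁻¹ ∉ sb G (z2 K) := mt inv_mem_iff.1 hn
  have ax : ∀ a b, lc K h (a, b) = 0 → a = 0 ∨ b = 0 := fun a b e => by
    by_contra! e1
    obtain ⟨w, hw⟩ := (lo _ (inv_mem hh) hn').2.ge (AddSubgroup.mem_top (b ^ 2 / a))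
    have := key _ (inv_mem hh) (fun τ h1 h3 => (up τ h1 h3).trans (lo _ (inv_mem hh) hn').1) w (a / b)
      (by simp [hw, e1.1, e1.2])
    rw [hw, inv_inv, show (a / b) ^ 2 * (b ^ 2 / a) = a by field_simp [e1.1, e1.2],
      show a / b * (b ^ 2 / a) = b by field_simp [e1.1, e1.2]] at this
    exact this e
  have fin : ∀ f : K →+ K × K, Function.Injective f → (lc K h).ker ≤ f.range → ∀ a, lc K h (f a) = 0 :=
    fun f i e a => (AddSubgroup.eq_of_le_of_card_ge e ((Nat.card_congr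
      (AddMonoidHom.ofInjective i).toEquiv).ge.trans (lo h hh hn).1)).ge ⟨a, rfl⟩
  by_cases e : ∀ a b, lc K h (a, b) = 0 → b = 0
  · refine Or.inl (AddSubgroup.ext fun ⟨a, b, c⟩ => ⟨fun hv => ?_, fun hv => ?_⟩)
    · obtain rfl : c = 0 := hv.1
      exact mem_z1.2 ⟨e a b hv.2, rfl⟩
    · obtain ⟨rfl, rfl⟩ : b = 0 ∧ c = 0 := mem_z1.1 hv
      exact ⟨rfl, fin (.inl K K) (fun _ _ e => congrArg Prod.fst e)
        (fun ⟨a, b⟩ hw => ⟨a, by simp [e a b hw]⟩) a⟩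
  · push Not at e
    obtain ⟨a₀, b₀, e1, e2⟩ := e
    have e : ∀ a b, lc K h (a, b) = 0 → a = 0 := fun a b e => by_contra fun e3 => by
      obtain rfl := (ax _ _ e1).resolve_right e2
      obtain rfl := (ax _ _ e).resolve_left e3
      exact (ax a b₀ (by simpa [e, e1] using map_add (lc K h) (a, 0) (0, b₀))).elim e3 e2
    refine Or.inr (AddSubgroup.ext fun ⟨a, b, c⟩ => ⟨fun hv => ?_, fun hv => ?_⟩)
    · obtain rfl : c = 0 := hv.1
      exact ⟨rfl, e a b hv.2⟩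
    · obtain ⟨rfl, rfl⟩ : c = 0 ∧ a = 0 := hv
      exact ⟨rfl, fin (.inr K K) (fun _ _ e => congrArg Prod.snd e)
        (fun ⟨a, b⟩ hw => ⟨b, by simp [e a b hw]⟩) b⟩

theorem Cu.le_ax {N : AddSubgroup (K × K × K)} (h0 : N ≠ ⊥) (h1 : N ≤ z2 K) (h3 : H ≤ sb G N)
    (hn : ¬ H ≤ sb G (z2 K)) : (N ≤ z1 K ∧ H ≤ sb G (z1 K)) ∨ (N ≤ y1 K ∧ H ≤ sb G (y1 K)) := by
  have e1 : ∀ h ∈ H, N ≤ dd h (z2 K) := fun h hh v hv => ⟨h1 hv, h1 (sb_mem (h3 hh) hv)⟩
  have key : ∀ A : AddSubgroup (K × K × K), (∀ h ∈ H, h ∉ sb G (z2 K) → dd h (z2 K) = A) →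
      H ≤ sb G A := fun A e => by
    refine H93.SX.le_of_not hn fun h hh h4 => mem_sb fun v hv => ?_
    rw [← e h hh h4] at hv
    rw [← e _ (inv_mem hh) (mt inv_mem_iff.1 h4)]
    exact ⟨hv.2, by simpa [mem_dd] using hv.1⟩
  obtain ⟨h, hh, h4⟩ := SetLike.not_le_iff_exists.1 hn
  have e2 : ¬ (N ≤ z1 K ∧ N ≤ y1 K) := fun e => h0 (le_bot_iff.1 fun ⟨a, b, c⟩ hv => by
    have := mem_z1.1 (e.1 hv)
    have := mem_y1.1 (e.2 hv)
    simp_all [Prod.ext_iff])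
  rcases S.dd_ax hh h4 with e | e
  · exact Or.inl ⟨e ▸ e1 h hh, key _ fun k hk h5 => (S.dd_ax hk h5).resolve_right
      fun e' => e2 ⟨e ▸ e1 h hh, e' ▸ e1 k hk⟩⟩
  · exact Or.inr ⟨e ▸ e1 h hh, key _ fun k hk h5 => (S.dd_ax hk h5).resolve_left
      fun e' => e2 ⟨e' ▸ e1 k hk, e ▸ e1 h hh⟩⟩

omit [Finite K] in
theorem Cu.mtc_uniq (h1 : h ∈ sb G (z1 K)) (hσ : σ ∈ H) (hτ : τ ∈ H) (a : Mtc K h σ)
    (b : Mtc K h τ) : σ = τ := by
  have h2 : σ⁻¹ ∈ sb G (z1 K) := inv_mem (mem_sb fun v hv => a.2 v hv ▸ sb_mem h1 hv)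
  have e : ∀ v, (σ⁻¹ * τ) • v - v ∈ z1 K := fun v => by
    simpa [mul_smul, smul_sub] using sb_mem h2 (sub_mem (b.sub v) (a.sub v))
  obtain ⟨s, hs⟩ := (S.mem _).1 (mem_of_st hM3 S.syl S.le (mul_mem (inv_mem hσ) hτ)
    ⟨fun v => z1_le (e v), fun v _ => e v, fun v hv => by
      rw [mul_smul, b.2 v hv, ← a.2 v hv, inv_smul_smul]⟩)
  obtain rfl : s = 0 := by simpa [hs, S.act2, mem_z1] using e (0, 0, 1)
  rwa [S.u_zero, inv_mul_eq_one] at hs

omit [Finite K] in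
/-- Two groups with the same shears and the same action on the two layers are conjugate. -/
theorem Cu.av (S' : Cu 2 H' U u) (hz : H ≤ sb G (z1 K)) (h1 : ∀ h ∈ H, ∃ h' ∈ H', Mtc K h h') :
    ∃ f : K →+ K, ∀ h ∈ H, ∀ h' ∈ H', Mtc K h h' → ∀ v : K × K × K,
      h' • (v.1 + f v.2.2, v.2) = ((h • v).1 + f (h • v).2.2, (h • v).2) := by
  choose θ m1 m2 using fun h : H => h1 h h.2
  have mul : ∀ a b, θ (a * b) = θ a * θ b := fun a b => S'.mtc_uniq (hz (a * b).2) (m1 _)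
    (mul_mem (m1 a) (m1 b)) (m2 _) ((m2 a).mul (m2 b) (hz a.2) (hz b.2))
  have fix : ∀ a : H, a.1 ∈ U → θ a = a := fun a ha => S'.mtc_uniq (hz a.2) (m1 a) (S'.syl.le ha)
    (m2 a) ⟨fun _ => rfl, fun _ _ => rfl⟩
  have := Fintype.ofFinite (H ⧸ U.subgroupOf H)
  let N : K × K × K →+ K × K × K := ∑ q : H ⧸ U.subgroupOf H,
    DistribSMul.toAddMonoidHom _ (θ q.out * (q.out : G)⁻¹)
  have hN : ∀ v, N v = ∑ q : H ⧸ U.subgroupOf H, θ q.out • (q.out : G)⁻¹ • v := fun v => by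
    simp [N, mul_smul]
  have e1 : ∀ (a : H) v, θ a • N v = N (a.1 • v) := fun a v => by
    rw [hN, hN, Finset.smul_sum]
    refine Fintype.sum_equiv (MulAction.toPerm a) _ _ fun q => ?_
    obtain ⟨k, hk⟩ := QuotientGroup.mk_out_eq_mul (U.subgroupOf H) (a * q.out)
    have : (MulAction.toPerm a q).out = a * q.out * k := by
      rw [← hk, ← smul_eq_mul, MulAction.Quotient.mk_smul_out]; rfl
    rw [this, mul, mul, fix _ k.2]
    simp [mul_smul]
  obtain ⟨m, hm⟩ : Odd (Fintype.card (H ⧸ U.subgroupOf H)) := by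
    rw [← Nat.not_even_iff_odd, even_iff_two_dvd, ← Nat.card_eq_fintype_card]
    exact S.syl.not_dvd_relIndex
  have e0 : ∀ v : K × K × K, ∑ _q : H ⧸ U.subgroupOf H, v = v := fun v => by
    rw [Finset.sum_const, Finset.card_univ, hm, succ_nsmul, mul_nsmul,
      show 2 • v = 0 by ext <;> simp [CharTwo.two_eq_zero], smul_zero, zero_add]
  have e2 : ∀ v, (N v).2 = v.2 := fun v => by
    rw [hN, Prod.snd_sum, ← e0 v, Prod.snd_sum, e0]
    exact Finset.sum_congr rfl fun q _ => by rw [(m2 _).1, smul_inv_smul]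
  have e3 : ∀ v ∈ z1 K, N v = v := fun v hv => by
    rw [hN, Finset.sum_congr rfl fun q _ => by
      rw [(m2 _).2 _ (sb_mem (inv_mem (hz q.out.2)) hv), smul_inv_smul], e0]
  have e4 : ∀ b : K, (N (0, b, 0)).1 = 0 := fun b => by
    have := e1 ⟨u b, S.mem_H b⟩ (0, 0, 1)
    rw [fix _ (S.mem_U b), S.act2, S.act2, map_add, e2, add_right_inj,
      show ((b ^ 2 * 1, b * 1, 0) : K × K × K) = (b ^ 2, 0, 0) + (0, b, 0) by simp, map_add,
      e3 (_, 0, 0) rfl, add_right_inj] at this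
    rw [← this]
  let f := (AddMonoidHom.fst _ _).comp (N.comp ((AddMonoidHom.inr _ _).comp (AddMonoidHom.inr K K)))
  have e5 : ∀ v : K × K × K, N v = (v.1 + f v.2.2, v.2) := fun ⟨a, b, c⟩ => Prod.ext (by
    rw [show ((a, b, c) : K × K × K) = (a, 0, 0) + (0, b, 0) + (0, 0, c) by simp, map_add, map_add,
      e3 (a, 0, 0) rfl]
    simp [e4, f]) (e2 _)
  exact ⟨f, fun h hh h' hh' a v => by
    rw [← e5, ← e5, S'.mtc_uniq (hz hh) hh' (m1 ⟨h, hh⟩) a (m2 _), e1]⟩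

theorem sxtwo_eq_defs : True := by
  have := @y1.eq_1.{0}
  have := @lc.eq_1.{0, 0}
  have := @Mtc.eq_1.{0, 0}
  trivial

end H93.SX
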