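import Mathlib
import Cfsg.Agent.Base
import Cfsg.Agent.Lib.SpX.Mod
import Cfsg.Agent.Lib.SpX.Two

/-!
Fusion systems over a Sylow `2`-subgroup of `Sp₄(2ⁿ)`: the automizer of one radical.
-/

set_option autoImplicit false

namespace H93.SX

open Subgroup Cfsg Cfsg.FusionSystem H93.R3 Un
open scoped commutatorElement

local notation:max "𝐂(" A ")" => Subgroup.centralizer (SetLike.coe A)

universe u v

section Gen

variable {W : Type*} {Γ : Type u} {Γ' : Type v} [Group W] [Group Γ] [Group Γ'] {ι ι' : W →* Γ}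
  {ψ ψ' : W →* Γ'} {E E' X Y : Subgroup W} {p : ℕ}

/-- Every automorphism of `E` induced through `ι` is induced through `ψ`. -/
def Eqv (ι : W →* Γ) (ψ : W →* Γ') (E : Subgroup W) : Prop :=
  ∀ g, (∀ x ∈ E, ∃ y ∈ E, Cj ι g x y) → ∃ k, ∀ x ∈ E, ∀ y ∈ E, Cj ι g x y → Cj ψ k x y

theorem Eqv.of (h : Eqv ι ψ E) (θ : W → W) (m : ∀ x ∈ E', θ x ∈ E) (s : ∀ y ∈ E, ∃ x ∈ E', θ x = y)
    (e1 : ∀ x ∈ E', ι' x = ι (θ x)) (e2 : ∀ x ∈ E', ψ' x = ψ (θ x)) : Eqv ι' ψ' E' := fun g hg => by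
  obtain ⟨k, hk⟩ := h g fun z hz => by
    obtain ⟨x, hx, rfl⟩ := s z hz
    obtain ⟨y, hy, e⟩ := hg x hx
    exact ⟨_, m y hy, by rwa [Cj, ← e1 x hx, ← e1 y hy]⟩
  refine ⟨k, fun x hx y hy e => ?_⟩
  rw [Cj, e2 x hx, e2 y hy]
  exact hk _ (m x hx) _ (m y hy) (by rwa [Cj, ← e1 x hx, ← e1 y hy])

theorem map_of (η : W ≃* W) (h : ∀ x, η x ∈ Y ↔ x ∈ X) : X.map η.toMonoidHom = Y :=
  Subgroup.ext fun y => ⟨by rintro ⟨x, hx, rfl⟩; exact (h x).2 hx,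
    fun hy => ⟨η.symm y, (h _).1 (by simpa), by simp⟩⟩

theorem nr_comp (η : W ≃* W) (h : ∀ x, η x ∈ Y ↔ x ∈ X) :
    nr (ι.comp η.toMonoidHom) X = nr ι Y := by rw [nr, nr, ← map_of η h, map_map]

theorem range_comp (η : W ≃* W) : (ι.comp η.toMonoidHom).range = ι.range := by
  rw [MonoidHom.range_comp, MonoidHom.range_eq_top.2 η.surjective, ← MonoidHom.range_eq_map]

theorem real_of_eqv [Finite Γ] [Finite Γ'] [Fact p.Prime] (F : Cf p ι) (F' : Cf p ψ)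
    (T : Sylow p Γ') (hT : (T : Subgroup Γ') = ψ.range)
    (h : ∀ E, E = ⊤ ∨ Es p ι E ∨ Es p ψ E → Eqv ι ψ E ∧ Eqv ψ ι E) :
    (groupFusionSystem ι.range).IsRealizable p := by
  let j := ψ.comp (MonoidHom.ofInjective F.inj).symm.toMonoidHom
  have hj : ∀ a ha, j ⟨ι a, ha⟩ = ψ a := fun a _ =>
    congrArg ψ ((MonoidHom.ofInjective F.inj).symm_apply_apply a)
  refine isRealizable_of (ι := j) ⟨F'.inj.comp (MulEquiv.injective _), fun P hP φ hφ => ⟨?_, ?_⟩⟩ T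
    (hT.trans (Subgroup.ext fun _ => ⟨fun ⟨a, e⟩ => ⟨_, (hj a ⟨a, rfl⟩).trans e⟩, fun ⟨_, e⟩ => ⟨_, e⟩⟩))
  · rintro ⟨-, -, g, e⟩
    obtain ⟨k, hk⟩ := F.alperin (ι' := ψ) (X := P.comap ι) (g := g) (fun E hE g hg =>
      let ⟨k, hk⟩ := (h E (hE.imp_right Or.inl)).1 g fun _ => nr_cj hg
      ⟨k, fun x hx y e => hk x hx y (e.mem F.inj hg hx) e⟩) fun x hx =>
        let ⟨y, hy⟩ := hφ ⟨_, hx⟩; ⟨y, (e ⟨_, hx⟩).symm.trans hy.symm⟩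
    refine ⟨k, fun ⟨x, hx⟩ => ?_⟩
    obtain ⟨a, rfl⟩ := hP hx
    obtain ⟨b, hb⟩ := hφ ⟨_, hx⟩
    simp only [← hb, hj]
    exact Eq.symm (hk a hx b ((e ⟨_, hx⟩).symm.trans hb.symm))
  · rintro ⟨k, e⟩
    have e' : ∀ a (ha : ι a ∈ P) b, ι b = φ ⟨_, ha⟩ → Cj ψ k a b := fun a ha b hb => by
      have := e ⟨_, ha⟩
      simp only [← hb, hj] at this
      exact this.symm
    obtain ⟨g, hg⟩ := F'.alperin (ι' := ι) (X := P.comap ι) (g := k) (fun E hE g hg =>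
      let ⟨k, hk⟩ := (h E (hE.imp_right Or.inr)).2 g fun _ => nr_cj hg
      ⟨k, fun x hx y e => hk x hx y (e.mem F'.inj hg hx) e⟩) fun x hx =>
        let ⟨y, hy⟩ := hφ ⟨_, hx⟩; ⟨y, e' x hx y hy⟩
    refine ⟨hP, hφ, g, fun ⟨x, hx⟩ => ?_⟩
    obtain ⟨a, rfl⟩ := hP hx
    obtain ⟨b, hb⟩ := hφ ⟨_, hx⟩
    exact hb.symm.trans (Eq.symm (hg a hx b (e' a hx b hb)))

end Gen

variable {K : Type*} {Γ : Type u} {Γ' : Type v} [Field K] [Group Γ] [Group Γ'] {ι : Un K →* Γ}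
  {ψ : Un K →* Γ'} {E N X : Subgroup (Un K)} {g k : Γ} {x y : Un K} {α β γ δ α' β' γ' δ' d e : K}

/-- Coordinates on the abelian radical modulo `Z1`. -/
def cB (x : Un K) : K × K := (x.b, x.c)

variable (K) in
/-- The short root subgroup in the centre. -/
def Y1 : Subgroup (Un K) where
  carrier := {x | x.t = 0 ∧ x.c = 0 ∧ x.a = 0}
  one_mem' := ⟨rfl, rfl, rfl⟩
  mul_mem' := fun {a b} ha hb => by simp_all
  inv_mem' := fun {a} ha => by simp_all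

@[simp] theorem mem_Y1 : x ∈ Y1 K ↔ x.t = 0 ∧ x.c = 0 ∧ x.a = 0 := Iff.rfl

/-- `g` acts on `V1 / Z1` as a matrix. -/
def Mt (ι : Un K →* Γ) (g : Γ) (α β γ δ : K) : Prop := g ∈ nr ι (V1 K) ∧ ∀ x ∈ V1 K, ∀ y ∈ V1 K,
  Cj ι g x y → y.b = α * x.b + β * x.c ∧ y.c = γ * x.b + δ * x.c

/-- Scalars induced on `Z1` through `ι` are induced through `ψ`. -/
def Dl (ι : Un K →* Γ) (ψ : Un K →* Γ') : Prop := ∀ g d, Kz ι g d → ∃ k, Kz ψ k d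

/-- The normalised configuration at `V1`. -/
structure Sd (ι : Un K →* Γ) : Prop where
  F : Cf 2 ι
  z : nr ι (V1 K) ≤ nr ι (Z1 K)
  ax : Ax (au F.inj (V1 K) cB ⊤) (0 : K →+ K)

theorem Mt.mul (a : Mt ι g α β γ δ) (b : Mt ι k α' β' γ' δ') : Mt ι (g * k) (α * α' + β * γ')
    (α * β' + β * δ') (γ * α' + δ * γ') (γ * β' + δ * δ') := ⟨mul_mem a.1 b.1, fun x hx y hy e => by
  obtain ⟨z, hz, e'⟩ := nr_cj b.1 hx
  have h1 := a.2 z hz y hy (by simpa using e.trans e'.symm)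
  have h2 := b.2 x hx z hz e'
  rw [h1.1, h1.2, h2.1, h2.2]
  constructor <;> ring⟩

theorem Mt.congr (a : Mt ι g α β γ δ) (h1 : α = α') (h2 : β = β') (h3 : γ = γ') (h4 : δ = δ') :
    Mt ι g α' β' γ' δ' := h1 ▸ h2 ▸ h3 ▸ h4 ▸ a

theorem Ac.mt {φ : (K × K) ≃ₗ[ℤ] (K × K)} (a : Ac ι (V1 K) cB g φ) (l : Lin (0 : K →+ K) φ α β γ δ) :
    Mt ι g α β γ δ := ⟨a.1, fun x hx y hy e => by
  have := a.2 x hx y hy e
  rw [cB, l.apply] at this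
  simpa [cB, eq_comm] using this⟩

theorem Kz.mul (a : Kz ι g d) (b : Kz ι k e) : Kz ι (g * k) (d * e) := fun x =>
  mul_assoc d e x ▸ (a _).trans (b x)

theorem Kz.uniq (i : Function.Injective ι) (a : Kz ι g d) (b : Kz ι g e) : d = e := by
  simpa using congrArg Un.a ((a 1).uniq i (b 1))

theorem Kz.ne (i : Function.Injective ι) (a : Kz ι g d) : d ≠ 0 := by
  rintro rfl
  simpa using congrArg Un.a ((a 1).symm.uniq i (z := 1) (by simp [Cj, show (⟨0, 0, 0, 0⟩ : Un K) = 1 from rfl]))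

theorem Kz.inv (a : Kz ι g d) (h : d ≠ 0) : Kz ι g⁻¹ d⁻¹ := fun x => by
  simpa [h] using (a (d⁻¹ * x)).symm

theorem Kz.cj (a : Kz ι g d) (hx : x ∈ Z1 K) : Cj ι g x ⟨0, d * x.a, 0, 0⟩ := by
  obtain ⟨_, a, _, _⟩ := x
  obtain ⟨rfl, rfl, rfl⟩ := hx
  exact ‹Kz ι g d› a

theorem coB (i : Function.Injective ι) (h : nr ι (V1 K) ≤ nr ι (Z1 K)) : Co ι (V1 K) cB :=
  ⟨fun x hx y _ => by simp_all [cB], fun v => ⟨⟨0, 0, v.1, v.2⟩, rfl, rfl⟩, fun g hg x hx y _ e h0 => by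
    have := e.mem i (h hg) (by simp_all [cB])
    simp_all [cB]⟩

variable [CharP K 2]

theorem sq_eq (h : x ^ 2 = 1) : x.t * x.c = 0 := by
  simpa [sq, ← two_mul, two0] using congrArg Un.b h

theorem sq_V (h : x.t * x.c = 0) : x ^ 2 = 1 := by
  have := two0 (K := K)
  rw [sq]; ext <;> simp <;> grind

theorem comm_Z (x : Un K) (h : y ∈ Z2 K) : ⁅x, y⁆ = 1 := by simp_all [comm_eq, two0]

theorem comm_Q (h : x ∈ Qm 0) (h' : y ∈ Qm 0) : ⁅x, y⁆ = 1 := by simp_all [comm_eq, two0]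

theorem se2 (h : Z2 K ≤ E) : Se E (Z2 K) ⊥ ⊥ := ⟨h, bot_le, le_rfl, fun t x _ => comm_Z2 t x,
  fun t _ => comm_Z t, fun _ _ h => by simp_all, fun _ _ h => by simp_all⟩

theorem img (i : Function.Injective ι) (h : ∀ x ∈ X, x ^ 2 = 1) :
    (∀ x ∈ X, ∀ y, Cj ι g x y → y ∈ V1 K) ∨ ∀ x ∈ X, ∀ y, Cj ι g x y → y ∈ Qm 0 := by
  by_contra! e
  obtain ⟨⟨x, hx, y, e, hy⟩, x', hx', y', e', hy'⟩ := e
  have k : ∀ x ∈ X, ∀ y, Cj ι g x y → y.t * y.c = 0 := fun x hx y e =>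
    sq_eq ((h x hx ▸ e.pow 2).uniq i (by simp [Cj]))
  have h1 := k x hx y e
  have h2 := k x' hx' y' e'
  have h3 := k _ (mul_mem hx hx') _ (e.mul e')
  simp only [mem_V1, mem_Qm, mul_t, mul_c] at *
  grind

theorem not_img (hg : g ∈ nr ι ⊤) (h1 : ∀ x ∈ V1 K, ∀ y, Cj ι g x y → y ∈ X)
    (h2 : ∀ x ∈ Qm 0, ∀ y, Cj ι g x y → y ∈ X) : (⟨1, 0, 0, 1⟩ : Un K) ∈ X := by
  obtain ⟨x, -, e⟩ := nr_cj' hg (mem_top ⟨1, 0, 0, 1⟩)
  obtain ⟨y, -, e'⟩ := nr_cj hg (mem_top ⟨x.t, 0, 0, 0⟩)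
  exact mem_of_mul' (h1 _ (by simp) _ (e'.inv.mul e)) (inv_mem (h2 _ (by simp) y e'))

variable [Finite Γ] (F : Cf 2 ι)
include F

theorem Es.cases2 (h : Es 2 ι E) : E = V1 K ∨ E = Qm 0 := by
  by_cases hV : E ≤ V1 K
  · exact Or.inl (le_antisymm hV fun t ht => h.cent F fun x hx => comm_V ht (hV hx))
  by_cases hQ : E ≤ Qm 0
  · exact Or.inr (le_antisymm hQ fun t ht => h.cent F fun x hx => comm_Q ht (hQ hx))
  obtain ⟨s, hs, hs'⟩ := SetLike.not_le_iff_exists.1 hV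
  obtain ⟨r, hr, hr'⟩ := SetLike.not_le_iff_exists.1 hQ
  have h1 : Z2 K ≤ E := fun t ht => h.cent F fun x _ => comm_symm (mem_bot.2 (comm_Z x ht))
  refine ((se2 h1).not F h (fun g hg => nr_rc F.inj 2 hg hg nr_bot fun x => ⟨fun hx => ⟨h1 hx,
    sq_V (by simp [hx.1]), fun y _ => comm_symm (mem_bot.2 (comm_Z y hx))⟩, fun ⟨_, a, b⟩ => ?_⟩)
    (fun _ _ => nr_bot) fun _ _ => nr_bot).elim
  have a := sq_eq a
  have b1 := (comm_eq.1 (b s hs)).2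
  have b2 := (comm_eq.1 (b r hr)).2
  simp only [mem_V1, mem_Qm, mem_Z2] at *
  grind

theorem Cf.top_V : nr ι ⊤ ≤ nr ι (V1 K) := by
  refine le_of_syl (p := 2) (sup_le inf_le_right (cent_le_norm _)) (lg_norm F.pr F.sat
    (fn_of fun _ _ _ => trivial)) (sup_le (inf_le_left.trans (le_nr fun t x _ => Z2_le (comm_Z2 t x)))
    (norm_of_cent le_rfl (map_mono le_top))) fun g hg o => mem_of_coprime (k := 1) ?_ o
  rcases img (g := g) F.inj (X := V1 K) fun x hx => sq_V (by simp_all) with a | a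
  · exact pow_mem (mem_nr_of hg le_top fun x hx y _ => a x hx y) _
  rcases img (g := g) F.inj (X := Qm 0) fun x hx => sq_V (by simp_all) with b | b
  · refine mem_nr fun x hx => ?_
    obtain ⟨y, -, e⟩ := nr_cj hg (mem_top x)
    obtain ⟨z, -, e'⟩ := nr_cj hg (mem_top y)
    exact ⟨z, b y (a x hx y e) z e', by simpa [sq] using e'.trans e⟩
  · simpa using not_img hg a b

theorem Cf.top_Q : nr ι ⊤ ≤ nr ι (Qm 0) := fun g hg => by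
  rcases img (g := g) F.inj (X := Qm 0) fun x hx => sq_V (by simp_all) with b | b
  · simpa using not_img hg (fun x hx y e => e.mem F.inj (F.top_V hg) hx) b
  · exact mem_nr_of hg le_top fun x hx y _ => b x hx y

omit [CharP K 2] in
theorem Cf.kz_top (a : Kz ι g d) : ∃ k ∈ nr ι ⊤, Kz ι k d := by
  obtain ⟨k, hk, e⟩ := Se.ext F (E := Z1 K) ⟨bot_le, le_rfl, le_rfl, fun t _ => comm_Z0 t,
    fun _ _ h => by simp_all, fun _ _ h => by simp_all, fun _ _ h => by simp_all⟩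
    (mem_nr fun x hx => ⟨_, by simp, a.cj hx⟩) nr_bot nr_bot nr_bot
  exact ⟨k, hk.2, fun x => e _ (by simp) _ (a x)⟩

theorem Cf.kz (hz : g ∈ nr ι (Z1 K)) (a : Mt ι g α β 0 δ) (h1 : α ≠ 0) (h2 : δ ≠ 0) :
    Kz ι g (α ^ 2 / δ) := by
  obtain ⟨k, hk, e⟩ := seV.ext F a.1 (mem_nr_of a.1 Z2_le fun x hx y hy c =>
    ⟨hy, by simpa [hx.2] using (a.2 x hx.1 y hy c).2⟩) hz nr_bot
  have e1 : ∀ x ∈ V1 K, ∀ y, Cj ι k x y → y ∈ V1 K ∧ Cj ι g x y := fun x hx y c =>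
    let ⟨z, hz, c'⟩ := nr_cj a.1 hx
    (e x hx z c').uniq F.inj c ▸ ⟨hz, c'⟩
  intro m
  obtain ⟨x, -, c1⟩ := nr_cj hk.2 (mem_top ⟨1, 0, 0, 0⟩)
  obtain ⟨v, hv, c2⟩ := nr_cj a.1 (x := ⟨0, 0, 0, m⟩) rfl
  obtain ⟨y, hy, c3⟩ := nr_cj a.1 (x := ⟨0, 0, m, 0⟩) rfl
  have c4 := (e1 _ comm_t _ (c1.comm (e _ rfl v c2))).2
  have b2 := a.2 _ rfl v hv c2
  have b3 := a.2 _ rfl y hy c3
  have b4 := a.2 _ comm_t _ comm_t c4
  have b5 : y.a = 0 := by_contra fun h0 => by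
    obtain ⟨r, -, c5⟩ := nr_cj' hk.2 (mem_top ⟨y.a / y.b, 0, 0, 0⟩)
    obtain ⟨s, hs, c6⟩ := nr_cj' hk.1 (y := ⟨0, 0, 0, y.b ^ 2 / y.a⟩) rfl
    have h3 : m ≠ 0 := by
      rintro rfl
      exact h0 (congrArg Un.a (c3.uniq F.inj (z := 1) (by
        simp [Cj, show (⟨0, 0, 0, 0⟩ : Un K) = 1 from rfl])))
    have h4 : y.b ≠ 0 := by simp [b3.1, h1, h3]
    have := (c5.comm c6).symm.uniq F.inj (z := ⟨0, 0, m, 0⟩) (by
      convert (e _ rfl y c3).symm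
      ext <;> simp_all [two0] <;> field_simp)
    have a1 := congrArg Un.a this
    have a2 := congrArg Un.b this
    simp only [comm_a, comm_b, mem_V1.1 hs, two0] at a1 a2
    grind
  convert c4.mul c3.inv using 1 <;> ext <;> simp only [mem_V1] at hv hy <;>
    simp [two0, hv, hy, b2.2, b3.1, b3.2, b5] at b4 ⊢
  · rcases eq_or_ne m 0 with rfl | h0
    · simp
    · field_simp; grind
  · grind

variable [Finite K]

theorem Cf.axis (h : ¬ nr ι (V1 K) ≤ nr ι (Z2 K)) (h0 : N ≠ ⊥) (h1 : N ≤ Z2 K)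
    (h2 : nr ι (V1 K) ≤ nr ι N) :
    (N ≤ Z1 K ∧ nr ι (V1 K) ≤ nr ι (Z1 K)) ∨ (N ≤ Y1 K ∧ nr ι (V1 K) ≤ nr ι (Y1 K)) := by
  have o := coV F.inj
  let N' : AddSubgroup (K × K × K) :=
    { carrier := {v | (⟨0, v.1, v.2.1, v.2.2⟩ : Un K) ∈ N}
      zero_mem' := one_mem N
      add_mem' := fun ha hb => (congrArg (· ∈ N) (by simp [Un.ext_iff])).mp (N.mul_mem ha hb)
      neg_mem' := fun ha => (congrArg (· ∈ N) (by simp [Un.ext_iff])).mp (N.inv_mem ha) }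
  have e : ∀ x ∈ V1 K, cV x ∈ N' ↔ x ∈ N := by
    rintro ⟨_, _, _, _⟩ rfl
    rfl
  refine (F.cu.le_ax (N := N') (fun e' => h0 (le_bot_iff.1 fun x hx => ?_)) (fun v hv => (h1 hv).2)
    (fun φ ⟨g, _, a⟩ => a.sb F.inj o e (h2 a.1)) fun e' => h (o.nr_le Z2_le
      (fun x hx => by simp_all [mem_z2, cV]) e')).imp (fun ⟨a, b⟩ => ⟨fun x hx => ⟨(h1 hx).1,
        mem_z1.1 (a ((e x (h1 hx).1).2 hx))⟩, o.nr_le (Z1_le.trans Z2_le)
          (fun x hx => by simp_all [mem_z1, cV]) b⟩) fun ⟨a, b⟩ => ⟨fun x hx => ⟨(h1 hx).1,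
        mem_y1.1 (a ((e x (h1 hx).1).2 hx))⟩, o.nr_le (fun _ h => h.1)
          (fun x hx => by simp_all [mem_y1, cV]) b⟩
  have := (e'.le ((e x (h1 hx).1).2 hx) : cV x = 0)
  have := h1 hx
  simp_all [cV, eq_one]

omit [Finite K] F [CharP K 2] in
theorem acB (i : Function.Injective ι) (w : Un K) : Ac ι (V1 K) cB (ι w) (uS w.t) :=
  ⟨self_nr fun x _ => Z2_le (comm_Z2 w x), fun x hx y _ e => by
    obtain rfl := e.uniq i (Cj.self w x)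
    show (_, _) = (_, _)
    simp_all [cB]
    ring⟩

omit [Finite K] [CharP K 2] in
theorem Cf.shB (h : nr ι (V1 K) ≤ nr ι (Z1 K)) :
    Sh 2 (au F.inj (V1 K) cB ⊤) (au F.inj (V1 K) cB ι.range) uS :=
  ⟨(coB F.inj h).syl F (fn_of fun t x _ => Z2_le (comm_Z2 t x)), fun _ =>
    ⟨fun ⟨_, ⟨w, rfl⟩, a⟩ => ⟨_, (coB F.inj h).uniq a (acB F.inj w)⟩,
      fun ⟨s, e⟩ => ⟨_, ⟨_, rfl⟩, e ▸ acB F.inj ⟨s, 0, 0, 0⟩⟩⟩, fun _ _ _ => rfl⟩

theorem Cf.exists_sd (h : nr ι (V1 K) ≤ nr ι (Z1 K)) (h' : ¬ nr ι (V1 K) ≤ nr ι (Z2 K)) :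
    ∃ φ, Sd (ι.comp (sh 0 φ).toMonoidHom) := by
  obtain ⟨σ, h1, h2⟩ := SetLike.not_le_iff_exists.1 (mt ((coB F.inj h).nr_le (i := F.inj) (Y := ax K)
    Z2_le fun x hx => by simp_all [mem_ax, cB]) h')
  obtain ⟨φ, σ, ⟨g, -, a⟩, e⟩ := (F.shB h).exists_ax h1 h2
  have e1 : nr (ι.comp (sh 0 φ).toMonoidHom) (V1 K) = nr ι (V1 K) := nr_comp _ fun x => Iff.rfl
  have e2 : nr (ι.comp (sh 0 φ).toMonoidHom) (Z1 K) = nr ι (Z1 K) := nr_comp _ fun x => by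
    simp only [sh, mem_Z1, MulEquiv.coe_mk, Equiv.coe_fn_mk]
    exact and_congr_right fun _ => and_congr_left fun e => by simp [e]
  obtain ⟨τ, b⟩ := (coB (F.comp (sh 0 φ)).inj (e1 ▸ e2 ▸ h)).exists_ac (e1 ▸ a.1)
  refine ⟨φ, F.comp _, e1 ▸ e2 ▸ h, τ, ⟨g, trivial, b⟩, fun x => ?_⟩
  obtain ⟨y, hy, c⟩ := nr_cj b.1 (x := ⟨0, 0, x, 0⟩) rfl
  have h3 := a.2 _ rfl ((sh 0 φ).toMonoidHom y) hy (Cj.comp.1 c)
  have h4 := e x
  rw [show (x, 0) = cB ((sh 0 φ).toMonoidHom ⟨0, 0, x, 0⟩) by simp [cB, sh], h3] at h4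
  rw [show (x, 0) = cB ⟨0, 0, x, 0⟩ from rfl, b.2 _ rfl y hy c]
  simpa [cB, sh] using h4

omit F

theorem Sd.sl2 (S : Sd ι) (h : α * δ - β * γ = 1) : ∃ g, Mt ι g α β γ δ ∧ Kz ι g (1 : K) := by
  obtain ⟨φ, ⟨⟨g, hg, b⟩, -⟩, e⟩ := (S.F.shB S.z).sl2 (L := au S.F.inj (V1 K) cB 𝐂((Z1 K).map ι))
    S.ax (fun φ ⟨g, _, b⟩ s => ⟨_, conj_mem (norm_cent le_rfl (S.z b.1)) (cent_of_cj fun x hx => by
      simpa [mul_inv_eq_one.1 (comm_Z0 _ hx)] using Cj.self (ι := ι) ⟨s, 0, 0, 0⟩ x),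
      (b.mul (acB S.F.inj ⟨s, 0, 0, 0⟩)).mul b.inv⟩) h
  exact ⟨g, b.mt e, fun a => by simpa using Cj.of_cent hg (by simp)⟩

theorem Sd.four (S : Sd ι) (x : K) : x ^ 4 = x := by
  rcases eq_or_ne x 0 with rfl | h
  · simp
  obtain ⟨g, a, b⟩ := S.sl2 (α := x) (β := 0) (γ := 0) (δ := x⁻¹) (by simp [h])
  have := b.uniq S.F.inj (S.F.kz (S.z a.1) a h (inv_ne_zero h))
  field_simp at this
  linear_combination -x * this

theorem Sd.lin (S : Sd ι) (hg : g ∈ nr ι (V1 K)) : ∃ α β γ δ, α * δ - β * γ ≠ 0 ∧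
    Mt ι g α β γ δ ∧ Kz ι g ((α * δ - β * γ) ^ 2) := by
  obtain ⟨φ, a⟩ := (coB S.F.inj S.z).exists_ac hg
  obtain ⟨α, β, γ, δ, l⟩ := (S.F.shB S.z).lin S.four S.ax ⟨g, trivial, a⟩
  have h := l.det
  refine ⟨α, β, γ, δ, h, a.mt l, ?_⟩
  generalize hd : α * δ - β * γ = d at h
  obtain ⟨k, b, c⟩ := S.sl2 (α := δ) (β := -β) (γ := -γ / d) (δ := α / d)
    (by field_simp; linear_combination hd)
  have e := (b.mul (a.mt l)).congr (α' := d) (β' := 0) (γ' := 0) (δ' := 1) (by linear_combination hd)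
    (by ring) (by ring) (by field_simp; linear_combination hd)
  simpa using (c.inv one_ne_zero).mul (S.F.kz (S.z e.1) e h one_ne_zero)

variable [Finite Γ']

theorem Sd.mtc (S : Sd ι) (S' : Sd ψ) (D : Dl ι ψ) :
    ∀ h ∈ au S.F.inj (V1 K) cV ⊤, ∃ h' ∈ au S'.F.inj (V1 K) cV ⊤, Mtc K h h' := by
  rintro h ⟨g, -, a⟩
  obtain ⟨α, β, γ, δ, h0, m, z⟩ := S.lin a.1
  obtain ⟨k, z1⟩ := D _ _ z
  obtain ⟨k, hk, z1⟩ := S'.F.kz_top z1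
  obtain ⟨α', β', γ', δ', h1, m1, z2⟩ := S'.lin (S'.F.top_V hk)
  have e : α * δ - β * γ = α' * δ' - β' * γ' := by
    have := z1.uniq S'.F.inj z2
    rwa [← sub_eq_zero, ← CharTwo.add_eq_zero.trans sub_eq_zero.symm, ← CharTwo.add_sq,
      pow_eq_zero_iff two_ne_zero, CharTwo.add_eq_zero] at this
  generalize hd : α' * δ' - β' * γ' = d at e h1
  obtain ⟨r, m2, z3⟩ := S'.sl2 (α := (α * δ' - β * γ') / d) (β := (β * α' - α * β') / d)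
    (γ := (γ * δ' - δ * γ') / d) (δ := (δ * α' - γ * β') / d) (by
      field_simp; linear_combination (α * δ - β * γ) * hd + d * e)
  have m3 := (m2.mul m1).congr (α' := α) (β' := β) (γ' := γ) (δ' := δ)
    (by field_simp; linear_combination α * hd) (by field_simp; linear_combination β * hd)
    (by field_simp; linear_combination γ * hd) (by field_simp; linear_combination δ * hd)
  obtain ⟨h', a'⟩ := (coV S'.F.inj).exists_ac m3.1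
  refine ⟨h', ⟨_, trivial, a'⟩, fun v => ?_, fun v hv => ?_⟩
  all_goals obtain ⟨x, hx, rfl⟩ := (coV S.F.inj).surj v
  · obtain ⟨y, hy, c⟩ := nr_cj a.1 hx
    obtain ⟨y', hy', c'⟩ := nr_cj a'.1 hx
    rw [a.2 x hx y hy c, a'.2 x hx y' hy' c']
    simp [cV, m.2 x hx y hy c, m3.2 x hx y' hy' c']
  · have hz : x ∈ Z1 K := ⟨hx, mem_z1.1 hv⟩
    rw [a.2 x hx _ rfl (z.cj hz), a'.2 x hx _ rfl ((z3.mul z1).cj hz), one_mul]

theorem Sd.eqv (S : Sd ι) (S' : Sd ψ) (D : Dl ι ψ) (D' : Dl ψ ι) : ∃ f,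
    Eqv ι (ψ.comp (sh f 0).toMonoidHom) (V1 K) ∧ Eqv (ψ.comp (sh f 0).toMonoidHom) ι (V1 K) := by
  have e : au S'.F.inj (V1 K) cV ψ.range = au S.F.inj (V1 K) cV ι.range :=
    Subgroup.ext fun φ => (S'.F.cu.mem φ).trans (S.F.cu.mem φ).symm
  obtain ⟨f, hf⟩ := S.F.cu.av (e ▸ S'.F.cu) (fun φ ⟨g, _, a⟩ => a.sb S.F.inj (coV S.F.inj)
    (fun x hx => by simp_all [mem_z1, cV]) (S.z a.1)) (S.mtc S' D)
  have key : ∀ g h k h', Ac ι (V1 K) cV g h → Ac ψ (V1 K) cV k h' → Mtc K h h' → ∀ x ∈ V1 K,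
      ∀ y ∈ V1 K, (Cj ι g x y ↔ Cj ψ k (sh f 0 x) (sh f 0 y)) := fun g h k h' a a' m x hx y hy => by
    obtain ⟨z, hz, c⟩ := nr_cj a.1 hx
    obtain ⟨z', hz', c'⟩ := nr_cj a'.1 (x := sh f 0 x) hx
    have := hf h ⟨g, trivial, a⟩ h' ⟨k, trivial, a'⟩ m (cV x)
    rw [a.2 x hx z hz c, show ((cV x).1 + f (cV x).2.2, (cV x).2) = cV (sh f 0 x) by simp [cV, sh],
      a'.2 (sh f 0 x) hx z' hz' c'] at this
    obtain rfl : z' = sh f 0 z := by ext <;> simp_all [cV, sh]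
    exact ⟨fun c1 => c.uniq S.F.inj c1 ▸ c', fun c1 => (sh f 0).injective (c'.uniq S'.F.inj c1) ▸ c⟩
  refine ⟨f, fun g hg => ?_, fun k hk => ?_⟩
  · obtain ⟨h, a⟩ := (coV S.F.inj).exists_ac (mem_nr hg)
    obtain ⟨h', ⟨k, -, a'⟩, m⟩ := S.mtc S' D h ⟨g, trivial, a⟩
    exact ⟨k, fun x hx y hy => (key g h k h' a a' m x hx y hy).1⟩
  · obtain ⟨h', a'⟩ := (coV S'.F.inj).exists_ac ((nr_comp (sh f 0) fun x => Iff.rfl).le (mem_nr hk))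
    obtain ⟨h, ⟨g, -, a⟩, m⟩ := S'.mtc S D' h' ⟨k, trivial, a'⟩
    exact ⟨g, fun x hx y hy => (key g h k h' a a' ⟨fun v => (m.1 v).symm, fun v hv => (m.2 v hv).symm⟩
      x hx y hy).2⟩

theorem sxev_eq_defs : True := by
  have := @Eqv.eq_1.{0, 0, 0}
  have := @cB.eq_1.{0}
  have := @Y1.eq_1.{0}
  have := @Mt.eq_1.{0, 0}
  have := @Dl.eq_1.{0, 0, 0}
  trivial

end H93.SX
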