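import Mathlib
import Cfsg.Agent.Base
import Cfsg.Agent.Lib.SpX.Ev

/-!
Saturated fusion systems over a Sylow `p`-subgroup of `Sp₄(q)` with a normal subgroup are realizable.
-/

set_option autoImplicit false

namespace H93.SX

open Subgroup Cfsg Cfsg.FusionSystem H93.R3 Un
open scoped commutatorElement

universe u v

variable {K : Type*} {Γ : Type u} {Γ' : Type v} [Field K] [Group Γ] [Group Γ'] {ι : Un K →* Γ}
  {ψ : Un K →* Γ'} {g : Γ} {x : Un K} {d : K} [CharP K 2] {hK : ∀ x : K, x ^ 4 = x} {f φ : K →+ K}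

theorem sh_fix (h : x ∈ Qm 0) : sh f φ x = x := by
  have : x.c = 0 := by simpa using h
  ext <;> simp [sh, this]

theorem sw_sw (x : Un K) : sw hK (sw hK x) = x := (sw hK).symm_apply_apply x

theorem sw_V : sw hK x ∈ V1 K ↔ x ∈ Qm 0 := by simp [sw, MonoidHom.toMulEquiv]

theorem sw_Q : sw hK x ∈ Qm 0 ↔ x ∈ V1 K := by simp [sw, MonoidHom.toMulEquiv]

theorem kz_sh : Kz (ι.comp (sh f φ).toMonoidHom) g d ↔ Kz ι g d :=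
  forall_congr' fun a => by simp [Cj, sh]

theorem kz_sw : Kz (ι.comp (sw hK).toMonoidHom) g d ↔ Kz ι g (d ^ 2) := by
  have e : ∀ a, Cj (ι.comp (sw hK).toMonoidHom) g ⟨0, a, 0, 0⟩ ⟨0, d * a, 0, 0⟩ ↔
      Cj ι g ⟨0, a ^ 2, 0, 0⟩ ⟨0, d ^ 2 * a ^ 2, 0, 0⟩ := fun a => by
    simp [Cj, sw, MonoidHom.toMulEquiv, mul_pow]
  refine ⟨fun h a => ?_, fun h a => (e a).2 (h _)⟩
  have := (e (a ^ 2)).1 (h _)
  rwa [← pow_mul, hK] at this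

theorem Dl.sw (D : Dl ι ψ) : Dl (ι.comp (sw hK).toMonoidHom) (ψ.comp (sw hK).toMonoidHom) :=
  fun g _ a => let ⟨k, b⟩ := D g _ (kz_sw.1 a); ⟨k, kz_sw.2 b⟩

variable [Finite Γ] [Finite Γ'] (F : Cf 2 ι) (F' : Cf 2 ψ)
include F F'

theorem eqv_top (e1 : Eqv ι ψ (V1 K)) (e2 : Eqv ι ψ (Qm 0)) : Eqv ι ψ ⊤ := fun g hg => by
  have hV := F.top_V (mem_nr hg)
  have hQ := F.top_Q (mem_nr hg)
  obtain ⟨k₁, h1⟩ := e1 g fun _ => nr_cj hV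
  obtain ⟨k₂, h2⟩ := e2 g fun _ => nr_cj hQ
  have hZ : ∀ x ∈ Z2 K, ∃ y ∈ Z2 K, Cj ι g x y := fun x hx =>
    let ⟨y, hy, e⟩ := nr_cj hV hx.1
    ⟨y, ⟨hy, by simpa using e.mem F.inj hQ (Z2_le_Q hx)⟩, e⟩
  obtain ⟨k, hk, h3⟩ := (se2 Z2_le).ext F' (g := k₁) (mem_nr fun x hx =>
    let ⟨y, hy, e⟩ := nr_cj hV hx; ⟨y, hy, h1 x hx y hy e⟩) (mem_nr fun x hx =>
    let ⟨y, hy, e⟩ := hZ x hx; ⟨y, hy, h1 x hx.1 y hy.1 e⟩) nr_bot nr_bot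
  have h4 : ∀ x ∈ V1 K, ∀ y, Cj ι g x y → Cj ψ k x y := fun x hx y e =>
    h3 x hx y (h1 x hx y (e.mem F.inj hV hx) e)
  have h5 := (se2 (Z2_le_Q (μ := 0))).inner F' (g := k⁻¹ * k₂) (mem_ch Z2_le_Q bot_le le_rfl
    (fun x hx => ?_) (fun x hx => ?_) (fun x hx => ⟨1, by simp [mem_bot.1 hx, Cj], by simpa⟩)
    fun x hx => by simp [mem_bot.1 hx, Cj])
  · obtain ⟨t, ht⟩ := h5
    refine ⟨k * ψ ⟨0, 0, 0, t.c⟩, fun x _ y _ e => ?_⟩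
    obtain ⟨z, hz, e'⟩ := nr_cj hQ (x := ⟨x.t, 0, 0, 0⟩) (by simp)
    have a := (h2 _ (by simp) z hz e').trans (ht _ (by simp)).symm
    rw [mul_inv_rev, mul_inv_cancel_left, inv_inv] at a
    have b := (h4 _ (by simp) _ (e'.inv.mul e)).trans (y := (⟨x.t, 0, 0, 0⟩ : Un K)⁻¹ * x) (by
      simpa [mul_inv_eq_one.1 (comm_V (x := ⟨0, 0, 0, t.c⟩) (y := (⟨x.t, 0, 0, 0⟩ : Un K)⁻¹ * x) rfl
        (by simp))] using Cj.self (ι := ψ) ⟨0, 0, 0, t.c⟩ ((⟨x.t, 0, 0, 0⟩ : Un K)⁻¹ * x))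
    have c := (a.trans (h := ψ ⟨0, 0, 0, t.c⟩) (x := ⟨x.t, 0, 0, 0⟩) (by
      convert Cj.self (ι := ψ) ⟨0, 0, 0, t.c⟩ ⟨x.t, 0, 0, 0⟩ using 1
      have := two0 (K := K)
      ext <;> simp <;> grind))
    simpa [mul_assoc] using c.mul b
  · obtain ⟨y, hy, e⟩ := nr_cj hQ hx
    obtain ⟨z, hz, e'⟩ := nr_cj' (F'.top_Q hk.2) hy
    obtain ⟨v, -, c⟩ := nr_cj hV (x := ⟨0, 0, 0, 1⟩) rfl
    have := congrArg Un.b ((h4 _ comm_t _ (e.comm c)).symm.uniq F'.inj (e'.comm (h4 _ rfl v c)).symm)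
    exact ⟨z, e'.symm.trans (h2 x hx y hy e), by simp_all⟩
  · obtain ⟨y, hy, e⟩ := hZ x hx
    exact ⟨x, (h4 x hx.1 y e).symm.trans (h2 x (Z2_le_Q hx) y (Z2_le_Q hy) e), by simp⟩

variable [Finite K]

theorem side (z : nr ι (V1 K) ≤ nr ι (Z1 K)) (n : ¬ nr ι (V1 K) ≤ nr ι (Z2 K))
    (z' : nr ψ (V1 K) ≤ nr ψ (Z1 K)) (n' : ¬ nr ψ (V1 K) ≤ nr ψ (Z2 K)) (D : Dl ι ψ) (D' : Dl ψ ι) :
    ∃ η : Un K ≃* Un K, (∀ x ∈ Qm 0, η x = x) ∧ (∀ x, η x ∈ V1 K ↔ x ∈ V1 K) ∧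
      Eqv ι (ψ.comp η.toMonoidHom) (V1 K) ∧ Eqv (ψ.comp η.toMonoidHom) ι (V1 K) := by
  obtain ⟨φ, S⟩ := F.exists_sd z n
  obtain ⟨φ', S'⟩ := F'.exists_sd z' n'
  obtain ⟨f, a, b⟩ := S.eqv S' (fun g d a => let ⟨k, b⟩ := D g d (kz_sh.1 a); ⟨k, kz_sh.2 b⟩)
    fun g d a => let ⟨k, b⟩ := D' g d (kz_sh.1 a); ⟨k, kz_sh.2 b⟩
  have s : ∀ y ∈ V1 K, ∃ x ∈ V1 K, (sh 0 φ).symm x = y := fun y hy => ⟨sh 0 φ y, hy, by simp⟩
  exact ⟨(sh 0 φ).symm.trans ((sh f 0).trans (sh 0 φ')), fun x hx => by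
      rw [MulEquiv.trans_apply, (MulEquiv.symm_apply_eq _).2 (sh_fix hx).symm, MulEquiv.trans_apply,
        sh_fix hx, sh_fix hx], fun x => Iff.rfl,
    a.of (sh 0 φ).symm (fun _ h => h) s (fun x _ => by simp) fun x _ => rfl,
    b.of (sh 0 φ).symm (fun _ h => h) s (fun x _ => rfl) fun x _ => by simp⟩

omit F' [Finite Γ']

theorem Cf.both (z1 : nr ι (V1 K) ≤ nr ι (Z1 K)) (n1 : ¬ nr ι (V1 K) ≤ nr ι (Z2 K))
    (z2 : nr ι (Qm 0) ≤ nr ι (Z1 K)) (n2 : ¬ nr ι (Qm 0) ≤ nr ι (Z2 K)) :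
    (groupFusionSystem ι.range).IsRealizable 2 := by
  have hK := (F.exists_sd z1 n1).choose_spec.four
  obtain ⟨G, _, _, ψ, i, ⟨T, hT⟩, a1, a2, a3, a4⟩ := exists_model hK
    { carrier := {d : Kˣ | ∃ g, Kz ι g d}
      one_mem' := ⟨1, fun a => by simpa using Cj.one⟩
      mul_mem' := fun ⟨_, a⟩ ⟨_, b⟩ => ⟨_, a.mul b⟩
      inv_mem' := fun {d} ⟨_, a⟩ => ⟨_, by simpa using a.inv d.ne_zero⟩ }
  have F' : Cf 2 ψ := ⟨i, F.pg, hT ▸ isSaturated_groupFusionSystem T⟩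
  have D : Dl ι ψ := fun g d a => (a2 (Units.mk0 d (a.ne F.inj))).2 ⟨g, a⟩
  have D' : Dl ψ ι := fun g d a => (a2 (Units.mk0 d (a.ne i))).1 ⟨g, a⟩
  have s1 : ∀ x, sw hK x ∈ Z1 K ↔ x ∈ Z1 K := fun x => by
    simp only [sw, MonoidHom.toMulEquiv, mem_Z1, MulEquiv.coe_mk, Equiv.coe_fn_mk, MonoidHom.mk'_apply]
    grind
  have s2 : ∀ x, sw hK x ∈ Z2 K ↔ x ∈ Z2 K := fun x => by simp [sw, MonoidHom.toMulEquiv, and_comm]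
  obtain ⟨η, b1, -, b3, b4⟩ := side F F' z1 n1 (fun g _ => a1 g) a3 D D'
  obtain ⟨θ, c1, c2, c3, c4⟩ := side (F.comp (sw hK)) (F'.comp (sw hK))
    (by rwa [nr_comp _ s1, nr_comp _ fun _ => sw_Q]) (by rwa [nr_comp _ s2, nr_comp _ fun _ => sw_Q])
    (by rw [nr_comp _ s1]; exact fun g _ => a1 g) (by rwa [nr_comp _ s2, nr_comp _ fun _ => sw_Q])
    D.sw D'.sw
  let ζ := (sw hK).trans (θ.trans ((sw hK).trans η))
  have e1 : ∀ x ∈ V1 K, ψ.comp ζ.toMonoidHom x = ψ.comp η.toMonoidHom x := fun x hx => by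
    simp [ζ, c1 _ (sw_Q.2 hx), sw_sw]
  have e2 : ∀ x ∈ Qm 0, ψ.comp ζ.toMonoidHom x =
      (ψ.comp (sw hK).toMonoidHom).comp θ.toMonoidHom (sw hK x) := fun x hx => by
    simp [ζ, b1 _ (sw_Q.2 ((c2 _).2 (sw_V.2 hx)))]
  have e3 : ∀ x ∈ Qm 0, ι x = ι.comp (sw hK).toMonoidHom (sw hK x) := fun x _ => by simp [sw_sw]
  have s : ∀ y ∈ V1 K, ∃ x ∈ Qm 0, sw hK x = y := fun y hy => ⟨_, sw_Q.2 hy, sw_sw y⟩
  have v1 := b3.of (ι' := ι) id (fun _ h => h) (fun y h => ⟨y, h, rfl⟩) (fun _ _ => rfl) e1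
  have v2 := b4.of (ψ' := ι) id (fun _ h => h) (fun y h => ⟨y, h, rfl⟩) e1 fun _ _ => rfl
  have q1 := c3.of (sw hK) (fun _ => sw_V.2) s e3 e2
  have q2 := c4.of (sw hK) (fun _ => sw_V.2) s e2 e3
  refine real_of_eqv F (F'.comp ζ) T (hT.trans (range_comp ζ).symm) fun E hE => ?_
  rcases hE.imp_right fun e => e.elim (·.cases2 F) (·.cases2 (F'.comp ζ)) with rfl | rfl | rfl
  exacts [⟨eqv_top F (F'.comp ζ) v1 q1, eqv_top (F'.comp ζ) F v2 q2⟩, ⟨v1, v2⟩, ⟨q1, q2⟩]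

theorem Cf.even (hc : (groupFusionSystem ι.range).core ≠ ⊥) :
    (groupFusionSystem ι.range).IsRealizable 2 := by
  by_cases h : Es 2 ι (V1 K) ∧ Es 2 ι (Qm 0)
  swap
  · refine F.real_of_uniq fun E E' a b => ?_
    rcases a.cases2 F with rfl | rfl <;> rcases b.cases2 F with rfl | rfl
    exacts [rfl, (h ⟨a, b⟩).elim, (h ⟨b, a⟩).elim, rfl]
  obtain ⟨N, h0, -, h1⟩ := F.exists_core hc
  have h2 : N ≤ Z2 K := fun x hx => ⟨(h1 _ h.1).1 hx, by simpa using (h1 _ h.2).1 hx⟩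
  have n1 : ¬ nr ι (V1 K) ≤ nr ι (Z2 K) := fun e =>
    (se2 Z2_le).not F h.1 e (fun _ _ => nr_bot) fun _ _ => nr_bot
  have n2 : ¬ nr ι (Qm 0) ≤ nr ι (Z2 K) := fun e =>
    (se2 Z2_le_Q).not F h.2 e (fun _ _ => nr_bot) fun _ _ => nr_bot
  have g0 : ∀ x : Un K, gre x = ⟨x.c, x.b ^ 2 + x.c ^ 2 * x.t ^ 2, x.a + x.c * x.t ^ 2, x.t ^ 2⟩ :=
    fun _ => rfl
  have g1 : nr (ι.comp gre.toMonoidHom) (V1 K) = nr ι (Qm 0) := nr_comp _ fun x => by simp [g0]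
  have g2 : nr (ι.comp gre.toMonoidHom) (Qm 0) = nr ι (V1 K) := nr_comp _ fun x => by simp [g0]
  have g3 : ∀ x, gre x ∈ Z2 K ↔ x ∈ Z2 K := fun x => by simp [g0, and_comm]
  have g4 : ∀ x, gre x ∈ Y1 K ↔ x ∈ Z1 K := fun x => by simp only [g0, mem_Y1, mem_Z1]; grind
  have g5 : ∀ x, gre x ∈ Z1 K ↔ x ∈ Y1 K := fun x => by simp only [g0, mem_Y1, mem_Z1]; grind
  have a := (F.comp gre).axis (N := N.comap (gre (K := K)).toMonoidHom) (by rwa [g1, nr_comp _ g3])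
    (fun e => h0 (le_bot_iff.1 fun x hx => by simpa using e.le (show gre.symm x ∈ _ by simpa)))
    (fun x hx => (g3 x).1 (h2 hx)) (by rw [g1, nr_comp (Y := N) _ fun _ => Iff.rfl]; exact (h1 _ h.2).2)
  rw [g1, nr_comp _ g4, nr_comp _ g5] at a
  have k : ∀ {X Y : Subgroup (Un K)}, (∀ x, gre x ∈ Y ↔ x ∈ X) → N.comap (gre (K := K)).toMonoidHom ≤ X → N ≤ Y :=
    fun e e' x hx => by simpa using (e _).2 (e' (show gre.symm x ∈ _ by simpa))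
  have e : ¬ (N ≤ Z1 K ∧ N ≤ Y1 K) := fun e => h0 (le_bot_iff.1 fun x hx => by
    have := e.1 hx
    have := e.2 hx
    simp_all [eq_one])
  rcases F.axis n1 h0 h2 (h1 _ h.1).2 with b | b <;> rcases a with a | a
  · exact (e ⟨b.1, k g4 a.1⟩).elim
  · exact F.both b.2 n1 a.2 n2
  · exact range_comp (ι := ι) gre ▸ (F.comp gre).both (by rw [g1, nr_comp _ g4]; exact a.2)
      (by rwa [g1, nr_comp _ g3]) (by rw [g2, nr_comp _ g4]; exact b.2) (by rwa [g2, nr_comp _ g3])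
  · exact (e ⟨k g5 a.1, b.1⟩).elim

end H93.SX
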